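import Cfsg.Agent.Lib.PGroup.Basic
import Mathlib.GroupTheory.Perm.Cycle.Type
import Mathlib.GroupTheory.Index

/-!
# Tools for 2-groups of normal rank two

Doubling a subgroup by one element, fixed representatives of invariant cosets under an automorphism of
odd prime order, and the obstruction coming from a normal elementary abelian subgroup of order eight.
-/

set_option autoImplicit false

namespace Cfsg.Lib.NormalRankTwo

open Subgroup
open scoped commutatorElement

universe u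

variable {P : Type u} [Group P]

/-- No normal elementary abelian subgroup has order exceeding four. -/
def NoEight (P : Type u) [Group P] : Prop :=
  ∀ B : Subgroup P, B.Normal → IsMulCommutative B → (∀ a ∈ B, a ^ 2 = 1) → Nat.card B ≤ 4

theorem noEight_of_two_gen (hd2 : ∀ A : Subgroup P, A.Normal → IsMulCommutative ↥A →
    ∃ a b : P, Subgroup.closure {a, b} = A) : NoEight P := by
  intro B hB hc hsq
  obtain ⟨a, b, hab⟩ := hd2 B hB hc
  have haB : a ∈ B := hab ▸ subset_closure (Or.inl rfl)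
  have hbB : b ∈ B := hab ▸ subset_closure (Or.inr rfl)
  have hcm : ∀ x ∈ B, ∀ y ∈ B, x * y = y * x := fun x hx y hy =>
    congrArg Subtype.val (hc.is_comm.comm ⟨x, hx⟩ ⟨y, hy⟩)
  let K : Subgroup P :=
    { carrier := {x | x = 1 ∨ x = a ∨ x = b ∨ x = a * b}
      one_mem' := Or.inl rfl
      mul_mem' := by
        have haa : a * a = 1 := by rw [← pow_two]; exact hsq a haB
        have hbb : b * b = 1 := by rw [← pow_two]; exact hsq b hbB
        have hba : b * a = a * b := hcm b hbB a haB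
        have h1 : a * (a * b) = b := by rw [← mul_assoc, haa, one_mul]
        have h2 : b * (a * b) = a := by rw [← mul_assoc, hba, mul_assoc, hbb, mul_one]
        have h3 : a * b * a = b := by rw [mul_assoc, hba, h1]
        have h4 : a * b * b = a := by rw [mul_assoc, hbb, mul_one]
        have h5 : a * b * (a * b) = 1 := by rw [mul_assoc, h2, haa]
        intro x y hx hy
        rcases hx with hx | hx | hx | hx <;> rcases hy with hy | hy | hy | hy <;>
          simp [hx, hy, haa, hbb, hba, h1, h2, h3, h4, h5]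
      inv_mem' := by
        intro x hx
        have hxB : x ∈ B := by
          rcases hx with rfl | rfl | rfl | rfl
          exacts [one_mem _, haB, hbB, mul_mem haB hbB]
        rwa [inv_eq_of_mul_eq_one_right (by rw [← pow_two]; exact hsq x hxB)] }
  have hle : B ≤ K := by
    rw [← hab, closure_le]
    intro x hx
    rcases hx with rfl | rfl
    · exact Or.inr (Or.inl rfl)
    · exact Or.inr (Or.inr (Or.inl rfl))
  have hsub : (B : Set P) ⊆ ({1, a, b, a * b} : Set P) := fun x hx => by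
    simpa using (show x = 1 ∨ x = a ∨ x = b ∨ x = a * b from hle hx)
  calc Nat.card B = (B : Set P).ncard := Nat.card_coe_set_eq _
    _ ≤ ({1, a, b, a * b} : Set P).ncard := Set.ncard_le_ncard hsub (by simp)
    _ ≤ 4 := by
      refine (Set.ncard_insert_le _ _).trans ?_
      refine Nat.add_le_add_right ((Set.ncard_insert_le _ _).trans ?_) 1
      refine Nat.add_le_add_right ((Set.ncard_insert_le _ _).trans ?_) 1
      rw [Set.ncard_singleton]

/-- The union of a subgroup and one further coset. -/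
theorem exists_double (H : Subgroup P) {x : P} (hx2 : x ^ 2 ∈ H) (hn : ∀ h ∈ H, x * h * x⁻¹ ∈ H) :
    ∃ H' : Subgroup P, (∀ y, y ∈ H' ↔ y ∈ H ∨ x⁻¹ * y ∈ H) ∧
      (x ∉ H → Nat.card H' = 2 * Nat.card H) := by
  have hn' : ∀ h ∈ H, x⁻¹ * h * x ∈ H := fun h hh => by
    have e : x⁻¹ * h * x = (x ^ 2)⁻¹ * (x * h * x⁻¹) * x ^ 2 := by group
    rw [e]
    exact mul_mem (mul_mem (inv_mem hx2) (hn h hh)) hx2
  let H' : Subgroup P :=
    { carrier := {y | y ∈ H ∨ x⁻¹ * y ∈ H}
      one_mem' := Or.inl (one_mem _)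
      mul_mem' := by
        rintro y z (hy | hy) (hz | hz)
        · exact Or.inl (mul_mem hy hz)
        · refine Or.inr ?_
          rw [show x⁻¹ * (y * z) = (x⁻¹ * y * x) * (x⁻¹ * z) by group]
          exact mul_mem (hn' y hy) hz
        · refine Or.inr ?_
          rw [← mul_assoc]
          exact mul_mem hy hz
        · refine Or.inl ?_
          rw [show y * z = (x * (x⁻¹ * y) * x⁻¹) * x ^ 2 * (x⁻¹ * z) by group]
          exact mul_mem (mul_mem (hn _ hy) hx2) hz
      inv_mem' := by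
        rintro y (hy | hy)
        · exact Or.inl (inv_mem hy)
        · refine Or.inr ?_
          rw [show x⁻¹ * y⁻¹ = (x⁻¹ * (x⁻¹ * y)⁻¹ * x) * (x ^ 2)⁻¹ by group]
          exact mul_mem (hn' _ (inv_mem hy)) (inv_mem hx2) }
  refine ⟨H', fun y => Iff.rfl, fun hxH => ?_⟩
  have hle : H ≤ H' := fun y hy => Or.inl hy
  have hidx : (H.subgroupOf H').index = 2 := by
    rw [Subgroup.index_eq_two_iff]
    refine ⟨⟨x⁻¹, inv_mem (show x ∈ H' from Or.inr (by simp))⟩, fun b => ?_⟩
    simp only [mem_subgroupOf, Subgroup.coe_mul]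
    rcases b.2 with hb | hb
    · refine Or.inr ⟨hb, fun h => hxH ?_⟩
      have := mul_mem (inv_mem hb) h
      rw [← mul_assoc, inv_mul_cancel, one_mul] at this
      exact inv_mem_iff.1 this
    · have hbx : (b : P) * x⁻¹ ∈ H := by
        rw [show (b : P) * x⁻¹ = x * (x⁻¹ * (b : P)) * x⁻¹ by group]
        exact hn _ hb
      refine Or.inl ⟨hbx, fun h => hxH ?_⟩
      have := mul_mem h (inv_mem hb)
      rwa [mul_inv_rev, inv_inv, ← mul_assoc, mul_inv_cancel, one_mul] at this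
  rw [← Subgroup.card_mul_index (H.subgroupOf H'), hidx,
    Nat.card_congr (Subgroup.subgroupOfEquivOfLe hle).toEquiv, mul_comm]

/-- A subgroup outside of which only one coset remains has index at most two. -/
theorem card_le_two_mul [Finite P] {H C : Subgroup P}
    (h : ∀ x ∈ C, ∀ y ∈ C, x ∉ H → y ∉ H → x⁻¹ * y ∈ H) : Nat.card C ≤ 2 * Nat.card H := by
  classical
  by_cases hCH : C ≤ H
  · have h1 : Nat.card C ≤ Nat.card H := Nat.le_of_dvd Nat.card_pos (card_dvd_of_le hCH)
    omega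
  · obtain ⟨x, hxC, hxH⟩ := SetLike.not_le_iff_exists.1 hCH
    let f : C → H × Bool := fun y =>
      if hy : (y : P) ∈ H then (⟨y, hy⟩, false) else (⟨x⁻¹ * y, h x hxC y y.2 hxH hy⟩, true)
    have hf : Function.Injective f := by
      intro y z hyz
      simp only [f] at hyz
      split_ifs at hyz with hy hz hz
      · exact Subtype.ext (Subtype.mk.inj (Prod.mk.inj hyz).1)
      · exact absurd (Prod.mk.inj hyz).2 (by simp)
      · exact absurd (Prod.mk.inj hyz).2 (by simp)
      · exact Subtype.ext (mul_left_cancel (Subtype.mk.inj (Prod.mk.inj hyz).1))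
    have h1 := Nat.card_le_card_of_injective f hf
    rwa [Nat.card_prod, Nat.card_eq_fintype_card (α := Bool), Fintype.card_bool, mul_comm] at h1

/-- An invariant coset contains a fixed element. -/
theorem exists_fixed_lift [Finite P] (hP : IsPGroup 2 P) {α : MulAut P} {r : ℕ} (hr : r.Prime)
    (hr2 : r ≠ 2) (hα : α ^ r = 1) (N : Subgroup P) (hN : ∀ x ∈ N, α x ∈ N) {g : P}
    (hg : g⁻¹ * α g ∈ N) : ∃ n ∈ N, α (g * n) = g * n := by
  classical
  haveI : Fact r.Prime := ⟨hr⟩
  haveI : Fact (Nat.Prime 2) := ⟨Nat.prime_two⟩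
  haveI := Fintype.ofFinite N
  let f : N → N := fun n => ⟨g⁻¹ * α g * α n, mul_mem hg (hN n n.2)⟩
  have hf : Function.Injective f := fun a b h => by
    have h' := congrArg Subtype.val h
    exact Subtype.ext (α.injective (mul_left_cancel h'))
  let σ : Equiv.Perm N := Equiv.ofBijective f hf.bijective_of_finite
  have hpow : ∀ (k : ℕ) (n : N), g * ((σ ^ k) n : N) = (α ^ k) (g * n) := by
    intro k
    induction k with
    | zero => intro n; simp
    | succ k ih =>
      intro n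
      rw [pow_succ', Equiv.Perm.mul_apply, pow_succ', MulAut.mul_apply, ← ih n]
      show g * (g⁻¹ * α g * α ((σ ^ k) n : N)) = α (g * ((σ ^ k) n : N))
      rw [map_mul]
      group
  have hσ : σ ^ r ^ 1 = 1 := by
    ext n
    have h := hpow r n
    rw [hα, MulAut.one_apply] at h
    rw [pow_one, Equiv.Perm.one_apply]
    exact mul_left_cancel h
  obtain ⟨k, hk⟩ := IsPGroup.iff_card.1 (hP.to_subgroup N)
  obtain ⟨a, ha⟩ := Equiv.Perm.exists_fixed_point_of_prime (p := r) (n := 1)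
    (by
      rw [← Nat.card_eq_fintype_card, hk]
      exact fun hd => hr2 ((Nat.prime_dvd_prime_iff_eq hr Nat.prime_two).1 (hr.dvd_of_dvd_pow hd)))
    hσ
  refine ⟨a, a.2, ?_⟩
  have h := hpow 1 a
  rw [pow_one, pow_one, ha] at h
  exact h.symm

/-- An automorphism of odd prime order fixing a normal series pointwise fixes the top. -/
theorem fixed_of_trivial [Finite P] (hP : IsPGroup 2 P) {α : MulAut P} {r : ℕ} (hr : r.Prime)
    (hr2 : r ≠ 2) (hα : α ^ r = 1) (N : Subgroup P) (hN : ∀ x ∈ N, α x = x) {g : P}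
    (hg : g⁻¹ * α g ∈ N) : α g = g := by
  obtain ⟨n, hn, he⟩ := exists_fixed_lift hP hr hr2 hα N (fun x hx => by rw [hN x hx]; exact hx) hg
  rw [map_mul, hN n hn] at he
  exact mul_right_cancel he

theorem exists_pow_involution {x : P} {k : ℕ} (hk : x ^ 2 ^ k = 1) (hx : x ≠ 1) :
    ∃ j : ℕ, (x ^ j) ^ 2 = 1 ∧ x ^ j ≠ 1 := by
  induction k with
  | zero => rw [pow_zero, pow_one] at hk; exact absurd hk hx
  | succ k ih =>
    by_cases h : x ^ 2 ^ k = 1
    · exact ih h
    · exact ⟨2 ^ k, by rw [← pow_mul, ← pow_succ, hk], h⟩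

theorem exists_pow_four {x : P} {k : ℕ} (hk : x ^ 2 ^ k = 1) (hx : x ^ 2 ≠ 1) :
    ∃ j : ℕ, (x ^ j) ^ 4 = 1 ∧ (x ^ j) ^ 2 ≠ 1 := by
  have h1 : (x ^ 2) ^ 2 ^ k = 1 := by rw [← pow_mul, mul_comm, pow_mul, hk, one_pow]
  obtain ⟨j, hj, hj1⟩ := exists_pow_involution h1 hx
  refine ⟨j, ?_, ?_⟩
  · rw [← hj, ← pow_mul, ← pow_mul, ← pow_mul]
    congr 1
    ring
  · rwa [← pow_mul, mul_comm, pow_mul]

/-- An automorphism of odd order of an abelian 2-group that fixes the involutions fixes everything. -/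
theorem fixed_of_omega [Finite P] (hP : IsPGroup 2 P) {α : MulAut P} {r : ℕ} (hr : r.Prime)
    (hr2 : r ≠ 2) (hα : α ^ r = 1) (Z : Subgroup P) (hZ : ∀ x ∈ Z, α x ∈ Z)
    (hc : ∀ x ∈ Z, ∀ y ∈ Z, x * y = y * x) (h1 : ∀ e ∈ Z, e ^ 2 = 1 → α e = e) :
    ∀ z ∈ Z, α z = z := by
  let Ω : Subgroup P :=
    { carrier := {e | e ∈ Z ∧ e ^ 2 = 1}
      one_mem' := ⟨one_mem _, one_pow _⟩
      mul_mem' := fun {a b} ha hb => ⟨mul_mem ha.1 hb.1, by
        rw [(show Commute a b from hc a ha.1 b hb.1).mul_pow, ha.2, hb.2, one_mul]⟩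
      inv_mem' := fun {a} ha => ⟨inv_mem ha.1, by rw [inv_pow, ha.2, inv_one]⟩ }
  have key : ∀ (k : ℕ) (z : P), z ∈ Z → z ^ 2 ^ k = 1 → α z = z := by
    intro k
    induction k with
    | zero => intro z _ h; rw [pow_zero, pow_one] at h; rw [h, map_one]
    | succ k ih =>
      intro z hz h
      have h2 := ih (z ^ 2) (pow_mem hz 2) (by rw [← pow_mul, ← pow_succ', h])
      refine fixed_of_trivial hP hr hr2 hα Ω (fun e he => h1 e he.1 he.2) ⟨mul_mem (inv_mem hz) (hZ z hz), ?_⟩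
      rw [(show Commute z⁻¹ (α z) from hc _ (inv_mem hz) _ (hZ z hz)).mul_pow, ← map_pow, h2, inv_pow,
        inv_mul_cancel]
  intro z hz
  obtain ⟨k, hk⟩ := hP z
  exact key k z hz hk

/-- A normal elementary abelian subgroup of order four cannot be enlarged by an involution. -/
theorem not_extend [Finite P] (h8 : NoEight P) (E : Subgroup P) [hEn : E.Normal]
    (hEc : ∀ a ∈ E, ∀ b ∈ E, a * b = b * a) (hE2 : ∀ e ∈ E, e ^ 2 = 1) (hE4 : 4 ≤ Nat.card E) {m : P}
    (hm : m ^ 2 = 1) (hcomm : ∀ e ∈ E, m * e = e * m) (hconj : ∀ t : P, t * m * t⁻¹ * m⁻¹ ∈ E) :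
    m ∈ E := by
  by_contra hmE
  obtain ⟨B, hB, hcard⟩ := exists_double E (x := m) (by rw [hm]; exact one_mem _)
    (fun h hh => hEn.conj_mem h hh m)
  have hshape : ∀ y ∈ B, ∃ e ∈ E, y = e ∨ y = m * e := fun y hy => by
    rcases (hB y).1 hy with h | h
    · exact ⟨y, h, Or.inl rfl⟩
    · exact ⟨_, h, Or.inr (by group)⟩
  have hBc : ∀ a ∈ B, ∀ b ∈ B, a * b = b * a := by
    intro a ha b hb
    obtain ⟨e, he, rfl | rfl⟩ := hshape a ha <;> obtain ⟨f, hf, rfl | rfl⟩ := hshape b hb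
    · exact hEc a he b hf
    · exact ((show Commute a m from (hcomm a he).symm).mul_right (hEc a he f hf)).eq
    · exact ((show Commute m b from hcomm b hf).mul_left (hEc e he b hf)).eq
    · exact ((Commute.refl m).mul_right (hcomm f hf)).mul_left
        ((show Commute e m from (hcomm e he).symm).mul_right (hEc e he f hf))
  haveI hBn : B.Normal := ⟨fun y hy t => by
    rw [hB]
    obtain ⟨e, he, rfl | rfl⟩ := hshape y hy
    · exact Or.inl (hEn.conj_mem y he t)
    · refine Or.inr ?_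
      rw [show m⁻¹ * (t * (m * e) * t⁻¹) = m⁻¹ * (t * m * t⁻¹ * m⁻¹) * m * (t * e * t⁻¹) by group]
      refine mul_mem ?_ (hEn.conj_mem e he t)
      simpa using hEn.conj_mem _ (hconj t) m⁻¹⟩
  have h := h8 B hBn ⟨⟨fun a b => Subtype.ext (hBc a a.2 b b.2)⟩⟩ (fun y hy => by
    obtain ⟨e, he, rfl | rfl⟩ := hshape y hy
    · exact hE2 y he
    · rw [(show Commute m e from hcomm e he).mul_pow, hm, hE2 e he, one_mul])
  rw [hcard hmE] at h
  omega

/-- In a 2-group a normal subgroup of order two is central. -/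
theorem central_of_card_two {c : P} (hc : ∀ t : P, t * c * t⁻¹ = c ∨ t * c * t⁻¹ = 1) (hc1 : c ≠ 1)
    (t : P) : t * c = c * t := by
  rcases hc t with h | h
  · exact mul_inv_eq_iff_eq_mul.1 h
  · exact absurd (conj_eq_one_iff.1 h) hc1

theorem comm_mul_right (x y z : P) : ⁅x, y * z⁆ = ⁅x, y⁆ * (y * ⁅x, z⁆ * y⁻¹) := by
  simp only [commutatorElement_def]
  group

theorem comm_mul_left (x y z : P) : ⁅x * y, z⁆ = x * ⁅y, z⁆ * x⁻¹ * ⁅x, z⁆ := by
  simp only [commutatorElement_def]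
  group

theorem comm_mul_right_central {x y z : P} (h : y * ⁅x, z⁆ = ⁅x, z⁆ * y) :
    ⁅x, y * z⁆ = ⁅x, y⁆ * ⁅x, z⁆ := by
  rw [comm_mul_right, h, mul_inv_cancel_right]

theorem comm_mul_left_central {x y z : P} (h : x * ⁅y, z⁆ = ⁅y, z⁆ * x) :
    ⁅x * y, z⁆ = ⁅y, z⁆ * ⁅x, z⁆ := by
  rw [comm_mul_left, h, mul_inv_cancel_right]

theorem mul_sq_central {x y : P} (hc : ∀ w : P, w ∈ ({x, y} : Set P) → w * ⁅y, x⁆ = ⁅y, x⁆ * w) :
    (x * y) ^ 2 = x ^ 2 * y ^ 2 * ⁅y, x⁆ := by
  have hy : y * ⁅y, x⁆ = ⁅y, x⁆ * y := hc y (Or.inr rfl)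
  calc (x * y) ^ 2 = x * ⁅y, x⁆ * (x * y) * y := by rw [pow_two, commutatorElement_def]; group
    _ = x * (⁅y, x⁆ * x) * y * y := by group
    _ = x * (x * ⁅y, x⁆) * y * y := by rw [hc x (Or.inl rfl)]
    _ = x * x * (⁅y, x⁆ * (y * y)) := by group
    _ = x * x * (y * y * ⁅y, x⁆) := by
      rw [show ⁅y, x⁆ * (y * y) = y * y * ⁅y, x⁆ by
        rw [← mul_assoc, ← hy, mul_assoc, ← hy, ← mul_assoc]]
    _ = x ^ 2 * y ^ 2 * ⁅y, x⁆ := by simp only [pow_two, mul_assoc]

theorem not_mem_of_sq_ne {H : Subgroup P} (hH : ∀ h ∈ H, h ^ 2 = 1) {x : P} (hx : x ^ 2 ≠ 1) :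
    x ∉ H := fun h => hx (hH x h)

end Cfsg.Lib.NormalRankTwo
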