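import Cfsg.Agent.Lib.NormalRankTwo.TypeTwoMain

/-!
# Conclusion of the case of a fixed centre
-/

set_option autoImplicit false
set_option linter.unusedSimpArgs false
set_option linter.style.haveILetI false

namespace Cfsg.Lib.NormalRankTwo

open Subgroup
open scoped commutatorElement

universe u

variable {P : Type u} [Group P] [Finite P] {α : MulAut P} {r : ℕ} {C : Subgroup P}

/-- Order 64 or 128 when the centralizer of a four-group centre is large. -/
theorem Fixing.card_of_large (s : Fixing α r C) (h4 : Nat.card (Ec C) = 4)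
    (hn : ∀ ζ ∈ Zc C, ζ ^ 2 = 1) (hM : 16 * Nat.card (Zc C) ≤ Nat.card (Mz C)) :
    Nat.card P = 64 ∨ Nat.card P = 128 := by
  haveI : Fact (Nat.Prime 2) := ⟨Nat.prime_two⟩
  have hZE : Zc C = Ec C := le_antisymm (fun ζ hζ => ⟨hζ, hn ζ hζ⟩) (fun e he => he.1)
  haveI := s.zc_normal
  have hMcard : Nat.card (Mz C) = 64 := by
    have h1 := s.layer_m.card_le s.isP s.h8
    have h2 : Nat.card (Zc C) = 4 := by rw [hZE, h4]
    omega
  obtain ⟨f0, hf0, hf01⟩ : ∃ f0 ∈ Ec C ⊓ center P, f0 ≠ 1 := by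
    haveI := s.ec_normal
    have hne : Ec C ⊓ center P ≠ ⊥ := PGroup.inf_center_ne_bot s.isP (fun hh => by
      rw [hh, card_bot] at h4; omega)
    by_contra hh
    push Not at hh
    exact hne ((Subgroup.eq_bot_iff_forall _).2 hh)
  have hhalf : Nat.card (⊤ : Subgroup P) ≤ 2 * Nat.card (Mz C) := by
    refine card_le_two_mul fun t _ t' _ ht ht' => mem_mz.2 fun ζ hζ => ?_
    rw [hZE] at hζ
    have hcen : ∀ v : P, v * f0 = f0 * v := fun v => mem_center_iff.1 hf0.2 v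
    have hconj : ∀ v : P, v ∉ Mz C → ∀ f ∈ Ec C, f ≠ 1 → f ≠ f0 → v * f * v⁻¹ = f0 * f := by
      intro v hv f hf hf1 hff
      haveI := s.ec_normal
      rcases klein h4.le hf0.1 hf hf01 hf1 (Ne.symm hff) hf0.1.2 ((inferInstance : (Ec C).Normal).conj_mem f hf v)
        with h | h | h | h
      · exact absurd (conj_eq_one_iff.1 h) hf1
      · exfalso
        refine hff ?_
        calc f = v⁻¹ * (v * f * v⁻¹) * v := by group
          _ = f0 := by rw [h, mul_assoc, ← hcen, inv_mul_cancel_left]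
      · exfalso
        refine hv (mem_mz.2 fun η hη => ?_)
        rw [hZE] at hη
        have hfv : f * v = v * f := (mul_inv_eq_iff_eq_mul.1 h).symm
        rcases klein h4.le hf0.1 hf hf01 hf1 (Ne.symm hff) hf0.1.2 hη with h' | h' | h' | h' <;> rw [h']
        · simp
        · exact (hcen v).symm
        · exact hfv
        · exact ((show Commute f0 v from (hcen v).symm).mul_left hfv).eq
      · exact h
    by_cases hζ1 : ζ = 1
    · simp [hζ1]
    by_cases hζ0 : ζ = f0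
    · rw [hζ0]; exact (hcen _).symm
    have h1 := hconj t ht ζ hζ hζ1 hζ0
    have h2 := hconj t' ht' ζ hζ hζ1 hζ0
    have h3 : t⁻¹ * t' * ζ * (t⁻¹ * t')⁻¹ = ζ := by
      rw [show t⁻¹ * t' * ζ * (t⁻¹ * t')⁻¹ = t⁻¹ * (t' * ζ * t'⁻¹) * t by group, h2, ← h1]
      group
    exact (mul_inv_eq_iff_eq_mul.1 h3).symm
  rw [Subgroup.card_top, hMcard] at hhalf
  obtain ⟨k, hk⟩ := IsPGroup.iff_card.1 s.isP
  have hge : 64 ≤ Nat.card P := hMcard ▸ Subgroup.card_le_card_group _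
  rw [hk] at hge hhalf ⊢
  have hk1 : 6 ≤ k := by
    by_contra hh
    have : 2 ^ k ≤ 2 ^ 5 := Nat.pow_le_pow_right two_pos (by omega)
    omega
  have hk2 : k ≤ 7 := by
    by_contra hh
    have : 2 ^ 8 ≤ 2 ^ k := Nat.pow_le_pow_right two_pos (by omega)
    omega
  interval_cases k
  · exact Or.inl rfl
  · exact Or.inr rfl

/-- Sixteen cosets with a cyclic centre. -/
theorem Fixing.isolated_of_sixteen (s : Fixing α r C) {c : P} (hc2 : c ^ 2 = 1) (hc1 : c ≠ 1)
    (hE : ∀ e, e ∈ Ec C ↔ e = 1 ∨ e = c) (hcard : Nat.card C = 16 * Nat.card (Zc C)) : Isolated P := by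
  haveI := s.zc_normal
  have hp0 : 0 < Nat.card (Zc C) := Nat.card_pos
  have hcE : c ∈ Ec C := (hE c).2 (Or.inr rfl)
  have hcchar : ∀ β : MulAut P, β c = c := fun β =>
    ((hE _).1 (⟨s.zc_char β hcE.1, by rw [← map_pow, hc2, map_one]⟩ : β c ∈ Ec C)).resolve_left
      (fun h => hc1 (β.injective (by rw [h, map_one])))
  have hccent : ∀ t : P, t * c = c * t := fun t => by
    have h := hcchar (MulAut.conj t)
    rw [MulAut.conj_apply] at h
    exact mul_inv_eq_iff_eq_mul.1 h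
  let Ω : Subgroup P := Ec C
  by_cases hn : ∃ ζ ∈ Zc C, ζ ^ 2 ≠ 1
  · -- a normal elementary abelian subgroup of order eight
    exfalso
    obtain ⟨ζ0, hζ0, hζ02⟩ := hn
    obtain ⟨w, hw, z, hzE, N, hNe, hwN, hz1, hzSq, hgen⟩ := s.exists_gen ⟨ζ0, hζ0, hζ02⟩
    have hzc : z = c := ((hE z).1 hzE).resolve_left hz1
    have hESq : ∀ e ∈ Ec C, IsSq C e := fun e he => by
      rcases (hE e).1 he with h | h <;> rw [h]
      exacts [⟨1, one_mem _, one_pow 2⟩, hzc ▸ hzSq]
    have hmulsq : ∀ a ∈ C, ∀ b ∈ C, (a * b) ^ 2 = a ^ 2 * b ^ 2 * ⁅b, a⁆ := fun a ha b hb =>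
      mul_sq_central (by
        rintro v (rfl | rfl)
        · exact zc_comm ha (s.comm _ ha b)
        · exact zc_comm hb (s.comm a ha _))
    let K : Subgroup P :=
      { carrier := {x | x ∈ C ∧ IsSq C (x ^ 2)}
        one_mem' := ⟨one_mem _, 1, one_mem _, rfl⟩
        mul_mem' := fun {a b} ha hb => ⟨mul_mem ha.1 hb.1, by
          rw [hmulsq a ha.1 b hb.1]
          exact isSq_mul (isSq_mul ha.2 hb.2) (hESq _ (s.comm_ec hb.1 ha.1))⟩
        inv_mem' := fun {a} ha => ⟨inv_mem ha.1, by rw [inv_pow]; exact isSq_inv ha.2⟩ }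
    have hK : Nat.card C ≤ 2 * Nat.card K := card_le_two_mul fun a ha b hb haK hbK => by
      refine ⟨mul_mem (inv_mem ha) hb, ?_⟩
      rw [hmulsq _ (inv_mem ha) b hb, inv_pow]
      refine isSq_mul ?_ (hESq _ (s.comm_ec hb (inv_mem ha)))
      obtain ⟨i, e, he, hi⟩ := hgen _ (s.sq a ha)
      obtain ⟨j, f, hf, hj⟩ := hgen _ (s.sq b hb)
      have hev : ∀ i : ℤ, Even i → IsSq C (w ^ i) := fun i ⟨m, hm⟩ =>
        ⟨w ^ m, zpow_mem hw m, by rw [pow_two, ← zpow_add, hm]⟩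
      have hiE : ¬ Even i := fun h => haK ⟨ha, hi ▸ isSq_mul (hev i h) (hESq e he)⟩
      have hjE : ¬ Even j := fun h => hbK ⟨hb, hj ▸ isSq_mul (hev j h) (hESq f hf)⟩
      rw [hi, hj, show (w ^ i * e)⁻¹ * (w ^ j * f) = e⁻¹ * w ^ (-i + j) * f by group]
      refine isSq_mul (isSq_mul (isSq_inv (hESq e he)) (hev _ ?_)) (hESq f hf)
      rw [Int.even_add, even_neg]
      exact iff_of_false hiE hjE
    have hinv : ∀ x ∈ K, x ∉ Zc C → ∃ m ∈ K, m ^ 2 = 1 ∧ m ∉ Zc C ∧ m⁻¹ * x ∈ Zc C := by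
      intro x hx hxZ
      obtain ⟨ζ, hζ, he⟩ := hx.2
      refine ⟨x * ζ⁻¹, mul_mem hx ⟨inv_mem hζ.1, ⟨ζ⁻¹, inv_mem hζ, rfl⟩⟩, ?_, fun h => hxZ ?_, ?_⟩
      · rw [(show Commute x ζ⁻¹ from zc_comm hx.1 (inv_mem hζ)).mul_pow, inv_pow, he, mul_inv_cancel]
      · simpa using mul_mem h hζ
      · rw [mul_inv_rev, inv_inv, mul_assoc, inv_mul_cancel, mul_one]; exact hζ
    have hconjE : ∀ m ∈ C, m ^ 2 = 1 → ∀ t : P, t * m * t⁻¹ * m⁻¹ ∈ Ec C := by
      intro m hm hm2 t
      refine ⟨(commutatorElement_def t m) ▸ s.comm m hm t, ?_⟩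
      rw [← commutatorElement_def, pow_two, ← comm_mul_right_central (zc_comm hm (s.comm m hm t)),
        show m * m = 1 by rw [← pow_two, hm2], commutatorElement_one_right]
    have hZK : Zc C ≤ K := fun ζ hζ => ⟨hζ.1, ⟨ζ, hζ, rfl⟩⟩
    have hKL : Layer C K := ⟨hZK, fun x hx => s.sq x hx.1, fun a _ b hb => s.comm b hb.1 a⟩
    obtain ⟨x, hx, hxZ⟩ := SetLike.exists_of_lt (lt_of_le_of_ne hZK (fun h => by
      have : Nat.card (Zc C) = Nat.card K := by rw [← h]
      omega))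
    obtain ⟨m1, hm1, hm12, hm1Z, -⟩ := hinv x hx hxZ
    let K1 : Subgroup P := K ⊓ centralizer ({m1} : Set P)
    have hK1mem : ∀ v, v ∈ K1 ↔ v ∈ K ∧ m1 * v = v * m1 := fun v => by
      show (v ∈ K ∧ v ∈ centralizer ({m1} : Set P)) ↔ _
      rw [mem_centralizer_iff]
      exact ⟨fun h => ⟨h.1, h.2 m1 rfl⟩, fun h => ⟨h.1, fun u hu => (Set.mem_singleton_iff.1 hu) ▸ h.2⟩⟩
    have hK1 : Nat.card K ≤ 2 * Nat.card K1 := card_le_two_mul fun a ha b hb haK hbK => by
      have hval : ∀ v ∈ K, v ∉ K1 → ⁅m1, v⁆ = c := fun v hv hv' =>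
        ((hE _).1 (s.comm_ec hm1.1 hv.1)).resolve_left fun h =>
          hv' ((hK1mem v).2 ⟨hv, commutatorElement_eq_one_iff_mul_comm.1 h⟩)
      refine (hK1mem _).2 ⟨mul_mem (inv_mem ha) hb, commutatorElement_eq_one_iff_mul_comm.1 ?_⟩
      have h0 := comm_mul_right_central (x := m1) (zc_comm (inv_mem ha.1) (s.comm a ha.1 m1))
      rw [inv_mul_cancel, commutatorElement_one_right, hval a ha haK] at h0
      rw [comm_mul_right_central (zc_comm (inv_mem ha.1) (s.comm b hb.1 m1)), hval b hb hbK]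
      exact h0.symm
    obtain ⟨H1, hH1, hh1, hZ1, h1K, -, hm1H⟩ := hKL.step le_rfl hZK hm1 hm1Z
    obtain ⟨y, hy, hyH⟩ : ∃ y ∈ K1, y ∉ H1 := by
      by_contra hh
      push Not at hh
      have := Nat.le_of_dvd Nat.card_pos (card_dvd_of_le (show K1 ≤ H1 from hh))
      omega
    obtain ⟨m2, hm2, hm22, hm2Z, hm2y⟩ := hinv y ((hK1mem y).1 hy).1 (fun h => hyH (hZ1 h))
    have h12 : m1 * m2 = m2 * m1 := by
      have h1 : Commute m1 (y * (m2⁻¹ * y)⁻¹) :=
        (show Commute m1 y from ((hK1mem y).1 hy).2).mul_right (zc_comm hm1.1 (inv_mem hm2y))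
      rwa [mul_inv_rev, inv_inv, mul_inv_cancel_left] at h1
    obtain ⟨B, hB, hBcard⟩ := exists_double (Ec C) (x := m1) (by rw [hm12]; exact one_mem _)
      (fun e he => by rw [zc_comm hm1.1 he.1, mul_inv_cancel_right]; exact he)
    have hEcard : Nat.card (Ec C) = 2 := by
      have he : (Ec C : Set P) = {1, c} := Set.ext fun e => by simpa using hE e
      rw [← SetLike.coe_sort_coe, Nat.card_coe_set_eq, he, Set.ncard_pair (Ne.symm hc1)]
    have hshape : ∀ v ∈ B, ∃ e ∈ Ec C, v = e ∨ v = m1 * e := fun v hv => by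
      rcases (hB v).1 hv with h | h
      exacts [⟨v, h, Or.inl rfl⟩, ⟨_, h, Or.inr (mul_inv_cancel_left m1 v).symm⟩]
    have hEB : Ec C ≤ B := fun e he => (hB e).2 (Or.inl he)
    haveI hEn := s.ec_normal
    haveI hBn : B.Normal := ⟨fun v hv t => by
      obtain ⟨e, he, h | h⟩ := hshape v hv <;> rw [h]
      · exact hEB (hEn.conj_mem e he t)
      · rw [show t * (m1 * e) * t⁻¹ = (t * m1 * t⁻¹ * m1⁻¹) * m1 * (t * e * t⁻¹) by group]
        exact mul_mem (mul_mem (hEB (hconjE m1 hm1.1 hm12 t)) ((hB m1).2 (Or.inr (by simp))))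
          (hEB (hEn.conj_mem e he t))⟩
    have hBc : ∀ a ∈ B, ∀ b ∈ B, a * b = b * a := by
      intro a ha b hb
      obtain ⟨e, he, h | h⟩ := hshape a ha <;> obtain ⟨f, hf, h' | h'⟩ := hshape b hb <;> rw [h, h']
      · exact zc_comm he.1.1 hf.1
      · exact ((show Commute m1 e from zc_comm hm1.1 he.1).symm.mul_right (zc_comm he.1.1 hf.1)).eq
      · exact ((show Commute m1 f from zc_comm hm1.1 hf.1).mul_left (zc_comm he.1.1 hf.1)).eq
      · exact ((Commute.refl m1).mul_right (zc_comm hm1.1 hf.1)).mul_left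
          ((show Commute m1 e from zc_comm hm1.1 he.1).symm.mul_right (zc_comm he.1.1 hf.1))
    have hm2B : m2 ∈ B := not_extend s.h8 B hBc (fun v hv => by
        obtain ⟨e, he, h | h⟩ := hshape v hv <;> rw [h]
        · exact he.2
        · rw [(show Commute m1 e from zc_comm hm1.1 he.1).mul_pow, hm12, he.2, one_mul])
      (by rw [hBcard (fun h => hm1Z h.1), hEcard]) hm22
      (fun v hv => by
        obtain ⟨e, he, h | h⟩ := hshape v hv <;> rw [h]
        · exact zc_comm hm2.1 he.1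
        · exact ((show Commute m2 m1 from h12.symm).mul_right (zc_comm hm2.1 he.1)).eq)
      (fun t => hEB (hconjE m2 hm2.1 hm22 t))
    refine hyH ?_
    have hm2H : m2 ∈ H1 := by
      obtain ⟨e, he, h | h⟩ := hshape m2 hm2B <;> rw [h]
      · exact hZ1 he.1
      · exact mul_mem hm1H (hZ1 he.1)
    have := mul_mem hm2H (hZ1 hm2y)
    rwa [mul_inv_cancel_left] at this
  · -- the group itself is extraspecial
    push Not at hn
    have hZE : ∀ ζ ∈ Zc C, ζ = 1 ∨ ζ = c := fun ζ hζ => (hE ζ).1 ⟨hζ, hn ζ hζ⟩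
    have hall : ∀ t : P, t ∈ Mz C := fun t => mem_mz.2 fun ζ hζ => by
      rcases hZE ζ hζ with h | h <;> rw [h]
      · simp
      · exact (hccent t).symm
    have hMC : Mz C = C := (eq_of_le_of_card_ge le_mz (by
      have := s.layer_m.card_le s.isP s.h8
      omega)).symm
    have hC : ∀ t : P, t ∈ C := fun t => hMC ▸ hall t
    refine ⟨c, hc1, hc2, hcchar, hccent, fun t _ v => zc_comm (hC v) (s.sq t (hC t)), fun v hv hv1 hvc => ?_⟩
    by_contra hq
    push Not at hq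
    have hvcomm : ∀ t : P, ⁅t, v⁆ = 1 ∨ ⁅t, v⁆ = c := fun t => hZE _ (s.comm v (hC v) t)
    set U := centralizer ({v} : Set P) with hU
    have hUmem : ∀ q, q ∈ U ↔ v * q = q * v := fun q => by
      rw [hU, mem_centralizer_iff]
      exact ⟨fun h => h v rfl, fun h u hu => (Set.mem_singleton_iff.1 hu) ▸ h⟩
    have hUsq : ∀ q ∈ U, q ^ 2 = 1 := fun q hqU => (hZE _ (s.sq q (hC q))).resolve_right
      (hq q ((hUmem q).1 hqU).symm)
    have hUc : ∀ a ∈ U, ∀ b ∈ U, a * b = b * a := fun a ha b hb => by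
      have h1 := hUsq _ (mul_mem ha hb)
      rw [mul_sq_central (by
        rintro u (rfl | rfl)
        · exact zc_comm (hC _) (s.comm _ (hC _) b)
        · exact zc_comm (hC _) (s.comm a (hC a) _)), hUsq a ha, hUsq b hb, one_mul, one_mul] at h1
      exact (commutatorElement_eq_one_iff_mul_comm.1 h1).symm
    haveI : U.Normal := ⟨fun q hq' t => by
      have h : t * q * t⁻¹ = ⁅t, q⁆ * q := by rw [commutatorElement_def]; group
      rw [h]
      refine mul_mem ((hUmem _).2 ?_) hq'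
      exact zc_comm (hC v) (s.comm q (hC q) t)⟩
    have h8' := s.h8 U inferInstance ⟨⟨fun a b => Subtype.ext (hUc a a.2 b b.2)⟩⟩ hUsq
    have hhalf : Nat.card C ≤ 2 * Nat.card U := card_le_two_mul fun a _ b _ ha hb => by
      have hval : ∀ q, q ∉ U → ⁅q, v⁆ = c := fun q hq' => (hvcomm q).resolve_left fun h =>
        hq' ((hUmem q).2 (commutatorElement_eq_one_iff_mul_comm.1 h).symm)
      refine (hUmem _).2 (commutatorElement_eq_one_iff_mul_comm.1 ?_).symm
      have h0 := comm_mul_left_central (x := a⁻¹) (zc_comm (inv_mem (hC a)) (s.comm v (hC v) a))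
      rw [inv_mul_cancel, commutatorElement_one_left, hval a ha] at h0
      rw [comm_mul_left_central (zc_comm (inv_mem (hC a)) (s.comm v (hC v) b)), hval b hb]
      exact h0.symm
    have h2Z : 2 ≤ Nat.card (Zc C) := by
      haveI : Nontrivial (Zc C) := ⟨⟨c, hcE.1⟩, 1, fun h => hc1 (congrArg Subtype.val h)⟩
      exact Finite.one_lt_card
    omega

theorem Quad.isolated {c : P} (q : Quad α r C c) (hMC : Mz C = C)
    (hcen : (∃ ζ ∈ Zc C, ζ ^ 2 ≠ 1) → ∀ e ∈ Ec C, ∀ t : P, t * e = e * t) : Isolated P := by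
  have hcZ : c ∈ Zc C := q.cmem.1
  -- decomposition along the fixed elements
  have hdec : ∀ t : P, ∃ q0 ρ, α ρ = ρ ∧ t = q0 * ρ ∧ (q0 = 1 ∨ ∃ y ∈ C, y ∉ Zc C ∧ q0 = y⁻¹ * α y) := by
    intro t
    have ht : t⁻¹ * α t ∈ C := by
      rw [← hMC]
      refine mem_mz.2 fun ζ hζ => ?_
      have h1 : t * ζ * t⁻¹ ∈ Zc C := q.zc_normal.conj_mem ζ hζ t
      have h2 := q.fix _ h1
      rw [map_mul, map_mul, map_inv, q.fix ζ hζ] at h2
      refine (mul_inv_eq_iff_eq_mul.1 ?_).symm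
      calc t⁻¹ * α t * ζ * (t⁻¹ * α t)⁻¹ = t⁻¹ * (α t * ζ * (α t)⁻¹) * t := by group
        _ = ζ := by rw [h2]; group
    obtain ⟨n, hn, hρ⟩ := q.lift C q.c_map ht
    haveI := normal_of_char q.chr
    have hq0 : (t * n) * n⁻¹ * (t * n)⁻¹ ∈ C := (inferInstance : C.Normal).conj_mem _ (inv_mem hn) _
    rcases q.cover _ hq0 with h | ⟨y, hy, hyZ, h⟩
    · refine ⟨1, (t * n) * n⁻¹ * (t * n)⁻¹ * (t * n), ?_, by group, Or.inl rfl⟩
      rw [map_mul, q.fix _ h, hρ]
    · refine ⟨y⁻¹ * α y, (y⁻¹ * α y)⁻¹ * ((t * n) * n⁻¹ * (t * n)⁻¹) * (t * n), ?_, by group,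
        Or.inr ⟨y, hy, hyZ, rfl⟩⟩
      rw [map_mul, q.fix _ h, hρ]
  have hfixC : ∀ g ∈ C, α g = g → g ∈ Zc C := fun g hg hfg => q.free g (le_mz hg) hfg
  have hfixcomm : ∀ ρ : P, α ρ = ρ → ∀ y ∈ C, ρ * (y⁻¹ * α y) = (y⁻¹ * α y) * ρ := by
    intro ρ hρ y hy
    have hk := q.comm y hy ρ
    have h1 : ρ * y * ρ⁻¹ = ⁅ρ, y⁆ * y := by rw [commutatorElement_def]; group
    have h2 : ρ * α y * ρ⁻¹ = ⁅ρ, y⁆ * α y := by
      have h := congrArg α h1
      rw [map_mul, map_mul, map_mul, map_inv, hρ, q.fix _ hk] at h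
      exact h
    have h3 : ρ * (y⁻¹ * α y) * ρ⁻¹ = y⁻¹ * α y := by
      rw [show ρ * (y⁻¹ * α y) * ρ⁻¹ = (ρ * y * ρ⁻¹)⁻¹ * (ρ * α y * ρ⁻¹) by group, h1, h2]
      group
    exact mul_inv_eq_iff_eq_mul.1 h3
  obtain ⟨x, hx, hxmv⟩ := q.moves
  have hxZ : x ∉ Zc C := fun h => hxmv (q.fix x h)
  set a := x⁻¹ * α x with ha
  have haC : a ∈ C := mul_mem (inv_mem hx) (q.c_map x hx)
  have ha2 : a ^ 2 = c := q.asq x hx hxZ
  have hclaim : ∀ ρ : P, α ρ = ρ → (ρ ^ 2) ^ 2 = 1 → ∀ v : P, v * ρ ^ 2 = ρ ^ 2 * v := by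
    intro ρ hρ hρ4
    set σ := ρ ^ 2 with hσ
    have hασ : α σ = σ := by rw [hσ, map_pow, hρ]
    by_cases hσC : σ ∈ C
    · have hσE : σ ∈ Ec C := ⟨hfixC σ hσC hασ, hρ4⟩
      by_cases hn : ∃ ζ ∈ Zc C, ζ ^ 2 ≠ 1
      · exact fun v => hcen hn σ hσE v
      push Not at hn
      by_cases hσ1 : σ = 1
      · intro v; simp [hσ1]
      by_cases hσc : σ = c
      · intro v; rw [hσc]; exact q.ccent v
      exfalso
      refine hσ1 ?_
      have hρM : ρ ∈ Mz C := mem_mz.2 fun ζ hζ => by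
        rcases klein q.ec_card q.cmem hσE q.cne hσ1 (Ne.symm hσc) q.csq ⟨hζ, hn ζ hζ⟩ with h | h | h | h <;>
          rw [h]
        · simp
        · exact (q.ccent ρ).symm
        · rw [hσ]; exact ((Commute.refl ρ).pow_left 2).eq
        · rw [hσ]
          exact ((show Commute c ρ from (q.ccent ρ).symm).mul_left ((Commute.refl ρ).pow_left 2)).eq
      exact hn _ (q.free ρ hρM hρ)
    exfalso
    by_cases hn : ∃ ζ ∈ Zc C, ζ ^ 2 ≠ 1
    swap
    · push Not at hn
      refine hσC ?_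
      rw [← hMC]
      refine mem_mz.2 fun ζ hζ => ?_
      have hζE : ζ ∈ Ec C := ⟨hζ, hn ζ hζ⟩
      have hconj : ρ * ζ * ρ⁻¹ ∈ Ec C := q.ec_normal.conj_mem ζ hζE ρ
      by_cases hζc : ζ = c
      · rw [hζc]; exact (q.ccent σ).symm
      by_cases hζ1 : ζ = 1
      · simp [hζ1]
      have h3 : ρ * (ρ * ζ * ρ⁻¹) * ρ⁻¹ = ζ := by
        rcases klein q.ec_card q.cmem hζE q.cne hζ1 (Ne.symm hζc) q.csq hconj with h | h | h | h
        · exact absurd (conj_eq_one_iff.1 h) hζ1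
        · exfalso
          refine hζc ?_
          calc ζ = ρ⁻¹ * (ρ * ζ * ρ⁻¹) * ρ := by group
            _ = c := by rw [h, mul_assoc, ← q.ccent, inv_mul_cancel_left]
        · rw [h, h]
        · rw [h, show ρ * (c * ζ) * ρ⁻¹ = (ρ * c * ρ⁻¹) * (ρ * ζ * ρ⁻¹) by group, h, q.ccent,
            mul_inv_cancel_right, ← mul_assoc, ← pow_two, q.csq, one_mul]
      rw [hσ, pow_two]
      calc ζ * (ρ * ρ) = ρ * (ρ * ζ * ρ⁻¹) * ρ⁻¹ * (ρ * ρ) := by rw [h3]
        _ = ρ * ρ * ζ := by group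
    -- the centre has exponent at least four and its involutions are central
    have hE := hcen hn
    have hs4 : ∀ y ∈ Zc C, y ^ 4 = 1 → σ * y = y * σ := by
      intro y hy hy4
      have hy2E : y ^ 2 ∈ Ec C := ⟨pow_mem hy 2, by rw [← pow_mul]; exact hy4⟩
      have hconj : ρ * y * ρ⁻¹ ∈ Zc C := q.zc_normal.conj_mem y hy ρ
      have he : y⁻¹ * (ρ * y * ρ⁻¹) ∈ Ec C := by
        refine ⟨mul_mem (inv_mem hy) hconj, ?_⟩
        rw [(show Commute y⁻¹ (ρ * y * ρ⁻¹) from zc_comm (inv_mem hy).1 hconj).mul_pow, conj_pow,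
          hE _ hy2E ρ, mul_inv_cancel_right, inv_pow, inv_mul_cancel]
      obtain ⟨e, he', hye⟩ : ∃ e ∈ Ec C, ρ * y * ρ⁻¹ = y * e := ⟨_, he, by rw [mul_inv_cancel_left]⟩
      have h2 : ρ * (ρ * y * ρ⁻¹) * ρ⁻¹ = y := by
        rw [hye, show ρ * (y * e) * ρ⁻¹ = ρ * y * ρ⁻¹ * (ρ * e * ρ⁻¹) by group, hye, hE e he' ρ,
          mul_inv_cancel_right, mul_assoc, ← pow_two, he'.2, mul_one]
      rw [hσ, pow_two]
      calc ρ * ρ * y = ρ * (ρ * y * ρ⁻¹) * ρ⁻¹ * (ρ * ρ) := by group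
        _ = y * (ρ * ρ) := by rw [h2]
    obtain ⟨w, hw, z, hzE, N, hNe, hwN, hz1, -, hgen⟩ := q.exists_gen hn
    have hform : ∀ t : P, ∃ i : ℤ, ∃ e ∈ Ec C, t * w * t⁻¹ = w ^ i * e ∧ Odd i := by
      intro t
      obtain ⟨i, e, he, hte⟩ := hgen _ (q.zc_normal.conj_mem w hw t)
      refine ⟨i, e, he, hte, ?_⟩
      rw [← Int.not_even_iff_odd]
      rintro ⟨i', hi⟩
      obtain ⟨M, hM⟩ := hNe
      have h1 : (t * w * t⁻¹) ^ N = 1 := by
        rw [hte, (show Commute (w ^ i) e from zc_comm (zpow_mem hw i).1 he.1).mul_pow, ← zpow_natCast,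
          ← zpow_mul, show e ^ N = 1 by rw [hM, ← mul_two, mul_comm, pow_mul, he.2, one_pow], mul_one,
          hi, show (i' + i') * (N : ℤ) = (N : ℤ) * (2 * i') by ring, zpow_mul, zpow_natCast, hwN,
          zpow_mul, zpow_two, ← pow_two, hzE.2, one_zpow]
      rw [conj_pow, hwN, hE z hzE t, mul_inv_cancel_right] at h1
      exact hz1 h1
    have hpowodd : ∀ e ∈ Ec C, ∀ i : ℤ, Odd i → e ^ i = e := fun e he i ⟨m, hm⟩ => by
      rw [hm, zpow_add, zpow_mul, zpow_two, ← pow_two, he.2, one_zpow, one_mul, zpow_one]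
    have hconjZ : ∀ (t : P) {i : ℤ} {e : P}, t * w * t⁻¹ = w ^ i * e → e ∈ Ec C → ∀ j : ℤ, ∀ f ∈ Ec C,
        t * (w ^ j * f) * t⁻¹ = w ^ (i * j) * e ^ j * f := by
      intro t i e hte he j f hf
      rw [show t * (w ^ j * f) * t⁻¹ = (t * w * t⁻¹) ^ j * (t * f * t⁻¹) by rw [conj_zpow]; group, hte,
        (show Commute (w ^ i) e from zc_comm (zpow_mem hw i).1 he.1).mul_zpow, ← zpow_mul, hE f hf t,
        mul_inv_cancel_right]
    have hcommute : ∀ t t' : P, ∀ y ∈ Zc C, t * (t' * y * t'⁻¹) * t⁻¹ = t' * (t * y * t⁻¹) * t'⁻¹ := by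
      intro t t' y hy
      obtain ⟨i, e, he, hte, hiodd⟩ := hform t
      obtain ⟨i', e', he', hte', hi'odd⟩ := hform t'
      obtain ⟨j, f, hf, rfl⟩ := hgen y hy
      have hej : e ^ j ∈ Ec C := zpow_mem he j
      have hej' : e' ^ j ∈ Ec C := zpow_mem he' j
      rw [hconjZ t' hte' he' j f hf, hconjZ t hte he j f hf, mul_assoc (w ^ (i' * j)), mul_assoc (w ^ (i * j)),
        hconjZ t hte he (i' * j) _ (mul_mem hej' hf), hconjZ t' hte' he' (i * j) _ (mul_mem hej hf),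
        show e ^ (i' * j) = e ^ j by rw [zpow_mul, hpowodd e he i' hi'odd],
        show e' ^ (i * j) = e' ^ j by rw [zpow_mul, hpowodd e' he' i hiodd],
        show i * (i' * j) = i' * (i * j) by ring, mul_assoc, mul_assoc]
      congr 1
      rw [← mul_assoc, ← mul_assoc, zc_comm hej.1.1 hej'.1]
    have hσ2 : σ * σ = 1 := by rw [← pow_two, hρ4]
    have hu : ∀ ρ' : P, α ρ' = ρ' → ⁅ρ', σ⁆ ∈ Ec C := by
      intro ρ' hρ'
      have hfu : α ⁅ρ', σ⁆ = ⁅ρ', σ⁆ := by rw [map_commutatorElement, hρ', hασ]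
      have hM : ⁅ρ', σ⁆ ∈ Mz C := mem_mz.2 fun y hy => by
        have hy' : σ⁻¹ * y * σ ∈ Zc C := by simpa using q.zc_normal.conj_mem y hy σ⁻¹
        have hy'' : ρ'⁻¹ * (σ⁻¹ * y * σ) * ρ' ∈ Zc C := by simpa using q.zc_normal.conj_mem _ hy' ρ'⁻¹
        refine (mul_inv_eq_iff_eq_mul.1 ?_).symm
        have h := hcommute ρ' σ _ hy''
        rw [show ⁅ρ', σ⁆ * y * ⁅ρ', σ⁆⁻¹
            = ρ' * (σ * (ρ'⁻¹ * (σ⁻¹ * y * σ) * ρ') * σ⁻¹) * ρ'⁻¹ by rw [commutatorElement_def]; group, h]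
        group
      have hk : ⁅ρ', σ⁆ ∈ Zc C := q.free _ hM hfu
      refine ⟨hk, ?_⟩
      have hinv : σ * ⁅ρ', σ⁆ * σ⁻¹ = ⁅ρ', σ⁆⁻¹ := by
        have h1 : (⁅ρ', σ⁆ * σ) * (⁅ρ', σ⁆ * σ) = 1 := by
          rw [show ⁅ρ', σ⁆ * σ = ρ' * σ * ρ'⁻¹ by rw [commutatorElement_def]; group,
            show ρ' * σ * ρ'⁻¹ * (ρ' * σ * ρ'⁻¹) = ρ' * (σ * σ) * ρ'⁻¹ by group, hσ2, mul_one, mul_inv_cancel]
        rw [inv_eq_of_mul_eq_one_right hσ2, eq_comm, inv_eq_iff_mul_eq_one, ← h1]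
        group
      by_contra hk2
      obtain ⟨k, hk'⟩ := q.isP ⁅ρ', σ⁆
      obtain ⟨j, hj4, hj2⟩ := exists_pow_four hk' hk2
      have h2 := hs4 _ (pow_mem hk j) hj4
      have h3 : σ * ⁅ρ', σ⁆ ^ j * σ⁻¹ = (⁅ρ', σ⁆ ^ j)⁻¹ := by rw [← conj_pow, hinv, inv_pow]
      rw [h2, mul_inv_cancel_right, eq_inv_iff_mul_eq_one, ← pow_two] at h3
      exact hj2 h3
    have hts : ∀ t : P, t * σ * t⁻¹ * σ⁻¹ ∈ Ec C := by
      intro t
      obtain ⟨q0, ρ', hρ', rfl, hq0⟩ := hdec t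
      have hcq : q0 * σ = σ * q0 := by
        rcases hq0 with h | ⟨y, hy, -, h⟩ <;> rw [h]
        · simp
        · exact (hfixcomm σ hασ y hy).symm
      rw [show q0 * ρ' * σ * (q0 * ρ')⁻¹ * σ⁻¹ = q0 * ⁅ρ', σ⁆ * (σ * q0⁻¹ * σ⁻¹) by
          rw [commutatorElement_def]; group,
        show σ * q0⁻¹ * σ⁻¹ = q0⁻¹ by rw [← (show Commute q0 σ from hcq).inv_left.eq, mul_inv_cancel_right],
        hE _ (hu ρ' hρ') q0, mul_inv_cancel_right]
      exact hu ρ' hρ'
    rcases q.ec_cases with ⟨c', hc'2, hc'1, hEc⟩ | h4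
    · -- a cyclic centre
      have hcc : c = c' := ((hEc c).1 q.cmem).resolve_left q.cne
      obtain ⟨ζ0, hζ0, hζ02⟩ := hn
      obtain ⟨k, hk'⟩ := q.isP ζ0
      obtain ⟨j, hj4, hj2⟩ := exists_pow_four hk' hζ02
      set i0 := ζ0 ^ j with hi0
      have hi0Z : i0 ∈ Zc C := pow_mem hζ0 j
      have hi02 : i0 ^ 2 = c :=
        (((hEc _).1 (⟨pow_mem hi0Z 2, by rw [← pow_mul]; exact hj4⟩ : i0 ^ 2 ∈ Ec C)).resolve_left hj2).trans
          hcc.symm
      set v := a * i0 with hv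
      have hvC : v ∈ C := mul_mem haC hi0Z.1
      have hv2 : v ^ 2 = 1 := by
        rw [hv, (show Commute a i0 from zc_comm haC hi0Z).mul_pow, ha2, hi02, ← pow_two, q.csq]
      have hvZ : v ∉ Zc C := fun h => q.moved_not_mem hxmv (by
        have := mul_mem h (inv_mem hi0Z)
        rwa [hv, mul_inv_cancel_right] at this)
      have hvσ : σ * v = v * σ :=
        ((show Commute σ a from hfixcomm σ hασ x hx).mul_right (hs4 i0 hi0Z hj4)).eq
      obtain ⟨B, hB, hBcard⟩ := exists_double (Ec C) (x := v) (by rw [hv2]; exact one_mem _)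
        (fun e he => by rw [hE e he v, mul_inv_cancel_right]; exact he)
      have hEcard : Nat.card (Ec C) = 2 := by
        have he : (Ec C : Set P) = {1, c} := Set.ext fun e => by simpa [hcc] using hEc e
        rw [← SetLike.coe_sort_coe, Nat.card_coe_set_eq, he, Set.ncard_pair (Ne.symm q.cne)]
      have hshape : ∀ b ∈ B, ∃ e ∈ Ec C, b = e ∨ b = v * e := fun b hb => by
        rcases (hB b).1 hb with h | h
        exacts [⟨b, h, Or.inl rfl⟩, ⟨_, h, Or.inr (mul_inv_cancel_left v b).symm⟩]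
      have hEB : Ec C ≤ B := fun e he => (hB e).2 (Or.inl he)
      have hvconj : ∀ t : P, t * v * t⁻¹ * v⁻¹ ∈ Ec C := fun t => by
        refine ⟨(commutatorElement_def t v) ▸ q.comm v hvC t, ?_⟩
        rw [← commutatorElement_def, pow_two, ← comm_mul_right_central (zc_comm hvC (q.comm v hvC t)),
          show v * v = 1 by rw [← pow_two, hv2], commutatorElement_one_right]
      haveI hBn : B.Normal := ⟨fun b hb t => by
        obtain ⟨e, he, h | h⟩ := hshape b hb <;> rw [h]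
        · rw [hE e he t, mul_inv_cancel_right]; exact hEB he
        · rw [show t * (v * e) * t⁻¹ = (t * v * t⁻¹ * v⁻¹) * v * (t * e * t⁻¹) by group, hE e he t,
            mul_inv_cancel_right]
          exact mul_mem (mul_mem (hEB (hvconj t)) ((hB v).2 (Or.inr (by simp)))) (hEB he)⟩
      have hσB : σ ∈ B := not_extend q.h8 B (fun b hb b' hb' => by
          obtain ⟨e, he, h | h⟩ := hshape b hb <;> obtain ⟨f, hf, h' | h'⟩ := hshape b' hb' <;> rw [h, h']
          · exact hE f hf e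
          · exact (hE e he (v * f)).symm
          · exact hE f hf (v * e)
          · exact ((Commute.refl v).mul_right (hE f hf v)).mul_left (hE e he (v * f)).symm)
        (fun b hb => by
          obtain ⟨e, he, h | h⟩ := hshape b hb <;> rw [h]
          · exact he.2
          · rw [(show Commute v e from hE e he v).mul_pow, hv2, he.2, one_mul])
        (by rw [hBcard (fun h => hvZ h.1), hEcard]) hρ4
        (fun b hb => by
          obtain ⟨e, he, h | h⟩ := hshape b hb <;> rw [h]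
          · exact hE e he σ
          · exact ((show Commute σ v from hvσ).mul_right (hE e he σ)).eq)
        (fun t => hEB (hts t))
      refine hσC ?_
      obtain ⟨e, he, h | h⟩ := hshape σ hσB <;> rw [h]
      exacts [he.1.1, mul_mem hvC he.1.1]
    · haveI := q.ec_normal
      exact hσC (not_extend q.h8 (Ec C) q.ec_comm (fun e he => he.2) h4.ge hρ4
        (fun e he => hE e he σ) hts).1.1
  refine ⟨c, q.cne, q.csq, q.cchar, q.ccent, fun t ht v => ?_, fun u hu hu1 huc => ?_⟩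
  · obtain ⟨q0, ρ, hρ, rfl, hq0⟩ := hdec t
    obtain ⟨hcm, hq2⟩ : Commute q0 ρ ∧ (q0 ^ 2 = 1 ∨ q0 ^ 2 = c) := by
      rcases hq0 with h | ⟨y, hy, hyZ, h⟩ <;> rw [h]
      · exact ⟨Commute.one_left ρ, Or.inl (one_pow 2)⟩
      · exact ⟨(hfixcomm ρ hρ y hy).symm, Or.inr (q.asq y hy hyZ)⟩
    rw [hcm.mul_pow] at ht ⊢
    rcases hq2 with h | h <;> rw [h] at ht ⊢
    · rw [one_mul] at ht ⊢
      exact hclaim ρ hρ ht v
    · rw [(show Commute c (ρ ^ 2) from (q.ccent _).symm).mul_pow, q.csq, one_mul] at ht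
      exact ((show Commute v c from q.ccent v).mul_right (hclaim ρ hρ ht v)).eq
  · obtain ⟨q0, ρ, hρ, rfl, hq0⟩ := hdec u
    rcases hq0 with h | ⟨y, hy, hyZ, h⟩
    · exact ⟨a, by rw [h, one_mul]; exact (hfixcomm ρ hρ x hx).symm, ha2⟩
    · refine ⟨q0, ?_, by rw [h]; exact q.asq y hy hyZ⟩
      exact (Commute.refl q0).mul_right (by rw [h]; exact (hfixcomm ρ hρ y hy).symm)

/-- The outcome of the second case. -/
theorem Fixing.typeTwo (s : Fixing α r C) : Nat.card P = 64 ∨ Nat.card P = 128 ∨ Isolated P := by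
  have hp0 : 0 < Nat.card (Zc C) := Nat.card_pos
  haveI := s.zc_normal
  have hMle := s.layer_m.card_le s.isP s.h8
  have hCM : Nat.card C ≤ Nat.card (Mz C) := Nat.le_of_dvd Nat.card_pos (card_dvd_of_le le_mz)
  have hdone : ∀ {k : Prop}, Nat.card P = 64 ∨ Nat.card P = 128 → Nat.card P = 64 ∨ Nat.card P = 128 ∨ k :=
    fun h => h.elim Or.inl fun h => Or.inr (Or.inl h)
  rcases s.card_cases with hcard | hcard
  · obtain ⟨c, q, hM⟩ := s.exists_quad hcard
    have hMC4 : Nat.card (Mz C) < 16 * Nat.card (Zc C) → Mz C = C := by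
      intro hlt
      by_contra hne
      obtain ⟨g, hg, hgC⟩ := SetLike.exists_of_lt (lt_of_le_of_ne le_mz (Ne.symm hne))
      obtain ⟨H, hH, hHc, hZH, hHM, hCH, -⟩ := s.layer_m.step inf_le_left le_mz hg hgC
      by_cases hHe : H = Mz C
      · obtain ⟨w, hw, hwC, hfw⟩ := s.only_coset s.layer_m (fun m hm => s.mz_map hm) inf_le_left le_mz
          (Ne.symm hne) s.c_map (by rw [← hHe, hHc])
        exact hwC (q.free w hw hfw).1
      · have := s.layer_m.double_le hZH hHM hHe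
        omega
    rcases s.ec_cases with ⟨c', hc'2, hc'1, hE⟩ | h4
    · have hE2 : Nat.card (Ec C) ≤ 2 := by
        have he : (Ec C : Set P) = {1, c'} := Set.ext fun e => by simpa using hE e
        rw [← SetLike.coe_sort_coe, Nat.card_coe_set_eq, he]
        exact (Set.ncard_insert_le _ _).trans (by rw [Set.ncard_singleton])
      have hlt : Nat.card (Mz C) < 16 * Nat.card (Zc C) := by
        have : Nat.card (Ec C) * Nat.card (Ec C) ≤ 2 * 2 := Nat.mul_le_mul hE2 hE2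
        have := hM.trans (Nat.mul_le_mul_right _ this)
        omega
      refine Or.inr (Or.inr (q.isolated (hMC4 hlt) fun _ e he t => ?_))
      rcases (hE e).1 he with h | h <;> rw [h]
      · simp
      · rw [← ((hE c).1 q.cmem).resolve_left q.cne]; exact q.ccent t
    · by_cases hn : ∃ ζ ∈ Zc C, ζ ^ 2 ≠ 1
      · obtain ⟨w, hw, z, hzE, N, -, -, hz1, hzSq, -⟩ := s.exists_gen hn
        obtain ⟨x, hx, hxmv⟩ := s.moves
        have hcSq : ¬ IsSq C c := by
          rw [← q.asq x hx (fun h => hxmv (s.fix x h)), s.moved_sq hx]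
          exact s.moved_not_isSq h4 hx hxmv
        have hcz : c ≠ z := fun h => hcSq (h ▸ hzSq)
        have hzc : ∀ t : P, t * z = z * t := by
          intro t
          have h1 : t * z * t⁻¹ ∈ Ec C := s.ec_normal.conj_mem z hzE t
          have h2 : IsSq C (t * z * t⁻¹) := by
            obtain ⟨ζ, hζ, he⟩ := hzSq
            exact ⟨t * ζ * t⁻¹, s.zc_normal.conj_mem ζ hζ t, by rw [conj_pow, he]⟩
          rcases klein h4.le q.cmem hzE q.cne hz1 hcz q.csq h1 with h | h | h | h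
          · exact absurd (conj_eq_one_iff.1 h) hz1
          · exact absurd (h ▸ h2) hcSq
          · exact mul_inv_eq_iff_eq_mul.1 h
          · exfalso
            refine hcSq ?_
            have := isSq_mul (h ▸ h2) hzSq
            rwa [mul_assoc, ← pow_two, hzE.2, mul_one] at this
        have hcenE : ∀ e ∈ Ec C, ∀ t : P, t * e = e * t := fun e he t => by
          rcases klein h4.le q.cmem hzE q.cne hz1 hcz q.csq he with h | h | h | h <;> rw [h]
          · simp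
          · exact q.ccent t
          · exact hzc t
          · exact ((show Commute t c from q.ccent t).mul_right (hzc t)).eq
        have hMcomm : ∀ m ∈ Mz C, ∀ t : P, ⁅t, m⁆ ∈ Zc C := fun m hm t => by
          refine s.zc_of_centralizes fun v hv => (commutatorElement_eq_one_iff_mul_comm.1 ?_).symm
          have hk : ∀ u ∈ C, ⁅m, u⁆ ∈ Ec C := fun u hu => s.mz_comm_ec hm hu
          haveI := normal_of_char s.chr
          have hv' : t⁻¹ * v * t ∈ C := by simpa using (inferInstance : C.Normal).conj_mem v hv t⁻¹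
          have h1 : ⁅t * m * t⁻¹, v⁆ = ⁅m, t⁻¹ * v * t⁆ := by
            have h := hcenE _ (hk _ hv') t
            calc ⁅t * m * t⁻¹, v⁆ = t * ⁅m, t⁻¹ * v * t⁆ * t⁻¹ := by
                  simp only [commutatorElement_def]; group
              _ = ⁅m, t⁻¹ * v * t⁆ := by rw [h, mul_inv_cancel_right]
          have h2 : ⁅m, t⁻¹ * v * t⁆ = ⁅m, v⁆ := by
            rw [show t⁻¹ * v * t = v * ⁅v⁻¹, t⁻¹⁆ by rw [commutatorElement_def]; group,
              comm_mul_right_central (hcenE _ (hk _ (by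
                rw [← commutatorElement_inv]; exact inv_mem (s.comm _ (inv_mem hv) _).1)) v)]
            have hkz : ⁅v⁻¹, t⁻¹⁆ ∈ Zc C := by
              rw [← commutatorElement_inv]; exact inv_mem (s.comm _ (inv_mem hv) _)
            rw [commutatorElement_eq_one_iff_mul_comm.2 (mem_mz.1 hm _ hkz).symm, mul_one]
          rw [show ⁅t, m⁆ = t * m * t⁻¹ * m⁻¹ from commutatorElement_def t m,
            comm_mul_left_central (hcenE _ (s.mz_comm_ec (inv_mem hm) hv) _), h1, h2,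
            ← comm_mul_left_central (hcenE _ (s.mz_comm_ec (inv_mem hm) hv) _), mul_inv_cancel,
            commutatorElement_one_left]
        have hlt := s.no_three hn h4 s.layer_m le_rfl hMcomm
        exact Or.inr (Or.inr (q.isolated (hMC4 hlt) fun _ => hcenE))
      · have hn' : ∀ ζ ∈ Zc C, ζ ^ 2 = 1 := by push Not at hn; exact hn
        by_cases hlt : Nat.card (Mz C) < 16 * Nat.card (Zc C)
        · exact Or.inr (Or.inr (q.isolated (hMC4 hlt) fun h => absurd h hn))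
        · exact hdone (s.card_of_large h4 hn' (not_lt.1 hlt))
  · rcases s.ec_cases with ⟨c', hc'2, hc'1, hE⟩ | h4
    · exact Or.inr (Or.inr (s.isolated_of_sixteen hc'2 hc'1 hE hcard))
    · by_cases hn : ∃ ζ ∈ Zc C, ζ ^ 2 ≠ 1
      · exfalso
        have := s.no_three hn h4 s.layer_c le_mz (fun x hx t => s.comm x hx t)
        omega
      · push Not at hn
        exact hdone (s.card_of_large h4 hn (by omega))

end Cfsg.Lib.NormalRankTwo
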