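import Cfsg.Agent.Lib.NormalRankTwo.TypeOneMain
import Cfsg.Agent.Lib.NormalRankTwo.TypeTwoFinal
import Cfsg.Agent.Lib.ZStar.Main
import Cfsg.Agent.Lib.Block.HomocyclicSylow
import Cfsg.Agent.Lib.Block.RegInt
import Cfsg.Agent.S0111
import Mathlib.GroupTheory.Subgroup.Simple

/-!
# Simple groups exclude the exceptional 2-groups of normal rank two
-/

set_option autoImplicit false
set_option linter.unusedSimpArgs false
set_option linter.style.haveILetI false

namespace Cfsg.Lib.NormalRankTwo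

open Subgroup
open scoped commutatorElement

universe u

variable {G : Type u} [Group G] [Finite G]

theorem exists_auto (T : Sylow 2 G)
    (hN : ¬ Subgroup.normalizer ((T : Subgroup G) : Set G) ≤
      (T : Subgroup G) ⊔ Subgroup.centralizer ((T : Subgroup G) : Set G)) :
    ∃ (α : MulAut (T : Subgroup G)) (r : ℕ), r.Prime ∧ r ≠ 2 ∧ α ^ r = 1 ∧ α ≠ 1 := by
  haveI : Fact (Nat.Prime 2) := ⟨Nat.prime_two⟩
  set φ := (T : Subgroup G).normalizerMonoidHom with hφ
  by_cases hp : IsPGroup 2 φ.range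
  · exfalso
    refine hN fun n hn => ?_
    have hle : (T : Subgroup G) ≤ normalizer ((T : Subgroup G) : Set G) := le_normalizer
    set S : Sylow 2 φ.range := (T.subtype hle).mapSurjective φ.rangeRestrict_surjective with hS
    have htop : (S : Subgroup φ.range) = ⊤ :=
      eq_top_iff.2 fun x _ => (S.3 (hp.to_subgroup ⊤) le_top).le (mem_top x)
    have hx : φ.rangeRestrict ⟨n, hn⟩ ∈ (S : Subgroup φ.range) := by rw [htop]; exact mem_top _
    obtain ⟨t, ht, he⟩ := hx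
    have hker : t⁻¹ * ⟨n, hn⟩ ∈ φ.ker := by
      rw [MonoidHom.mem_ker, map_mul, map_inv, inv_mul_eq_one]
      exact congrArg Subtype.val he
    rw [hφ, normalizerMonoidHom_ker] at hker
    have h := mul_mem (mem_sup_left (T := centralizer ((T : Subgroup G) : Set G)) (show (t : G) ∈ (T : Subgroup G) from ht))
      (mem_sup_right (mem_subgroupOf.1 hker))
    simpa using h
  · obtain ⟨r, hr, hr2, hdvd⟩ : ∃ r, r.Prime ∧ r ≠ 2 ∧ r ∣ Nat.card φ.range := by
      by_contra hh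
      push Not at hh
      exact hp (IsPGroup.of_card (Nat.eq_prime_pow_of_unique_prime_dvd Nat.card_pos.ne'
        fun {d} hd hdd => by_contra fun hd2 => hh d hd hd2 hdd))
    haveI : Fact r.Prime := ⟨hr⟩
    obtain ⟨x, hx⟩ := exists_prime_orderOf_dvd_card' r hdvd
    refine ⟨(x : MulAut (T : Subgroup G)), r, hr, hr2, ?_, fun h => ?_⟩
    · rw [← hx, ← Subgroup.orderOf_coe]
      exact pow_orderOf_eq_one _
    · have : orderOf x = 1 := by rw [← Subgroup.orderOf_coe, h, orderOf_one]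
      rw [hx] at this
      exact hr.one_lt.ne' this

/-- A 2-subgroup centralizing a central element of the Sylow subgroup is conjugate into it along the
centralizer of that element. -/
theorem exists_into (T : Sylow 2 G) {d : G} (hd : ∀ t ∈ (T : Subgroup G), t * d = d * t) (W : Subgroup G)
    (hW : IsPGroup 2 W) (hWd : ∀ w ∈ W, w * d = d * w) :
    ∃ h : G, h * d * h⁻¹ = d ∧ ∀ w ∈ W, h * w * h⁻¹ ∈ (T : Subgroup G) := by
  haveI : Fact (Nat.Prime 2) := ⟨Nat.prime_two⟩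
  set K := centralizer ({d} : Set G) with hK
  have hmem : ∀ {x : G}, x ∈ K ↔ x * d = d * x := fun {x} => by
    rw [hK, mem_centralizer_iff]
    exact ⟨fun h => (h d rfl).symm, fun h y hy => (Set.mem_singleton_iff.1 hy) ▸ h.symm⟩
  have hTK : (T : Subgroup G) ≤ K := fun t ht => hmem.2 (hd t ht)
  have hWK : W ≤ K := fun w hw => hmem.2 (hWd w hw)
  let S : Sylow 2 K := T.subtype hTK
  obtain ⟨R, hR⟩ := (hW.of_equiv (Subgroup.subgroupOfEquivOfLe hWK).symm).exists_le_sylow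
  obtain ⟨k, hk⟩ := MulAction.exists_smul_eq K R S
  refine ⟨(k : G), mul_inv_eq_iff_eq_mul.2 (hmem.1 k.2), fun w hw => ?_⟩
  have h1 : (⟨w, hWK hw⟩ : K) ∈ (R : Subgroup K) := hR hw
  have h2 : k * ⟨w, hWK hw⟩ * k⁻¹ ∈ (S : Subgroup K) := by
    rw [← hk, Sylow.coe_subgroup_smul]
    exact ⟨⟨w, hWK hw⟩, h1, rfl⟩
  exact h2

theorem card_ne_one_of_simple [IsSimpleGroup G] (hna : ¬ IsMulCommutative G) :
    ¬ IsPGroup 2 G := fun hp => by
  haveI : Fact (Nat.Prime 2) := ⟨Nat.prime_two⟩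
  haveI := hp.isNilpotent
  exact hna ⟨⟨fun a b => (IsSimpleGroup.comm_iff_isSolvable (G := G)).2 inferInstance a b⟩⟩

theorem false_of_homocyclic [IsSimpleGroup G] (hna : ¬ IsMulCommutative G) (T : Sylow 2 G)
    (h : Homocyclic (T : Subgroup G)) : False := by
  classical
  haveI := Fintype.ofFinite G
  haveI : Fact (Nat.Prime 2) := ⟨Nat.prime_two⟩
  obtain ⟨hc, h16, hinv, u, hu⟩ := h
  haveI : IsMulCommutative (T : Subgroup G) := ⟨⟨hc⟩⟩
  obtain ⟨M, hM⟩ := Cfsg.Lib.Block.exists_isPModular Nat.prime_two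
  have hO : ∀ N : Subgroup G, N.Normal → Odd (Nat.card N) → N = ⊥ := fun N hN hodd => by
    refine hN.eq_bot_or_eq_top.resolve_right fun e => ?_
    rw [e, Subgroup.card_top] at hodd
    have h2 : 2 ∣ Nat.card G := ((show 2 ∣ 16 by norm_num).trans h16).trans (Subgroup.card_subgroup_dvd_card _)
    exact Nat.not_odd_iff_even.2 (even_iff_two_dvd.2 h2) hodd
  obtain ⟨hn, -, -⟩ := Cfsg.Lib.Block.homocyclic_sylow_two hM T h16 hinv hu hO
  rcases hn.eq_bot_or_eq_top with e | e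
  · rw [e, card_bot] at h16
    omega
  · exact card_ne_one_of_simple hna (fun g => by
      obtain ⟨k, hk⟩ := T.2 ⟨g, e ▸ mem_top g⟩
      exact ⟨k, congrArg Subtype.val hk⟩)

theorem false_of_isolated [IsSimpleGroup G] (hna : ¬ IsMulCommutative G) (T : Sylow 2 G)
    (h : Isolated (T : Subgroup G)) : False := by
  haveI : Fact (Nat.Prime 2) := ⟨Nat.prime_two⟩
  obtain ⟨c, hc1, hc2, hfix, hcen, hsq, hq⟩ := h
  have hc1' : (c : G) ≠ 1 := fun h => hc1 (Subtype.ext h)
  have hord : orderOf (c : G) = 2 := by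
    refine orderOf_eq_prime ?_ hc1'
    exact congrArg Subtype.val hc2
  have hiso : ∀ g0 : G, g0 * (c : G) * g0⁻¹ ∈ (T : Subgroup G) → g0 * (c : G) * g0⁻¹ = c := by
    intro g0 hg0
    set v : (T : Subgroup G) := ⟨g0 * (c : G) * g0⁻¹, hg0⟩ with hv
    by_contra hne
    have hv2 : v ^ 2 = 1 := Subtype.ext (by
      rw [SubmonoidClass.coe_pow, Subgroup.coe_one, hv, conj_pow, ← SubmonoidClass.coe_pow, hc2,
        Subgroup.coe_one, mul_one, mul_inv_cancel])
    obtain ⟨q, hqv, hq2⟩ := hq v hv2 (fun h => hc1' (conj_eq_one_iff.1 (congrArg Subtype.val h)))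
      (fun h => hne (congrArg Subtype.val h))
    -- move the square root into the Sylow subgroup
    have hvG : ((v : (T : Subgroup G)) : G) = g0 * (c : G) * g0⁻¹ := rfl
    have hqG : (q : G) * (v : G) = (v : G) * (q : G) := congrArg Subtype.val hqv
    set w := g0⁻¹ * (q : G) * g0 with hw
    have hwc : w * (c : G) = (c : G) * w := by
      rw [hw, show (c : G) = g0⁻¹ * (v : G) * g0 by rw [hvG]; group,
        show g0⁻¹ * (q : G) * g0 * (g0⁻¹ * (v : G) * g0) = g0⁻¹ * ((q : G) * (v : G)) * g0 by group, hqG]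
      group
    have hW : IsPGroup 2 (zpowers w) := by
      obtain ⟨k, hk⟩ := IsPGroup.iff_orderOf.1 T.2 q
      refine IsPGroup.of_card (n := k) ?_
      rw [Nat.card_zpowers, hw]
      have he : orderOf (g0⁻¹ * (q : G) * g0) = orderOf (q : G) := by
        simpa [MulAut.conj_apply] using MulEquiv.orderOf_eq (MulAut.conj g0⁻¹) (q : G)
      rw [he, Subgroup.orderOf_coe, hk]
    have hcT : ∀ t ∈ (T : Subgroup G), t * (c : G) = (c : G) * t := fun t ht =>
      congrArg Subtype.val (hcen ⟨t, ht⟩)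
    obtain ⟨h, hhc, hhW⟩ := exists_into T hcT (zpowers w) hW fun x hx => by
      obtain ⟨i, rfl⟩ := mem_zpowers_iff.1 hx
      exact ((show Commute w (c : G) from hwc).zpow_left i).eq
    set g := h * g0⁻¹ with hg
    have hgv : g * (v : G) * g⁻¹ = c := by
      rw [hg, hvG, show h * g0⁻¹ * (g0 * (c : G) * g0⁻¹) * (h * g0⁻¹)⁻¹ = h * (c : G) * h⁻¹ by group, hhc]
    set q' : (T : Subgroup G) := ⟨h * w * h⁻¹, hhW w (mem_zpowers w)⟩ with hq'
    have hqc : ((q' ^ 2 : (T : Subgroup G)) : G) = g * (c : G) * g⁻¹ := by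
      rw [SubmonoidClass.coe_pow, show ((q' : (T : Subgroup G)) : G) = g * (q : G) * g⁻¹ by
        show h * w * h⁻¹ = _
        rw [hg, hw]; group, conj_pow, ← SubmonoidClass.coe_pow, hq2]
    have hcentral := hsq q' (Subtype.ext (by
      rw [SubmonoidClass.coe_pow, hqc, conj_pow, ← SubmonoidClass.coe_pow, hc2, Subgroup.coe_one, mul_one,
        mul_inv_cancel]))
    obtain ⟨n, hn, hnc⟩ := T.conj_eq_normalizer_conj_of_mem_centralizer (c : G) g⁻¹
      (mem_centralizer_iff.2 fun t ht => hcT t ht)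
      (by
        rw [inv_inv]
        refine mem_centralizer_iff.2 fun t ht => ?_
        rw [← hqc]
        exact congrArg Subtype.val (hcentral ⟨t, ht⟩))
    rw [inv_inv] at hnc
    have hgc : g * (c : G) * g⁻¹ = c := by
      rw [hnc]
      have hb : (((T : Subgroup G).normalizerMonoidHom ⟨n⁻¹, inv_mem hn⟩ c : (T : Subgroup G)) : G)
          = n⁻¹ * (c : G) * n⁻¹⁻¹ := rfl
      rw [hfix, inv_inv] at hb
      exact hb.symm
    exact hne (mul_left_cancel (mul_right_cancel (hgv.trans hgc.symm)) : (v : G) = c)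
  have hiso' := Invol.isolated_of_sylow T hord hiso
  have hO : oddCore G = ⊥ := by
    refine ((inferInstance : (oddCore G).Normal).eq_bot_or_eq_top).resolve_right fun e => ?_
    have hodd : Odd (Nat.card (oddCore G)) := Lib.ZStar.odd_card_oddCore
    rw [e, Subgroup.card_top] at hodd
    exact Nat.not_odd_iff_even.2 (even_iff_two_dvd.2 (hord ▸ orderOf_dvd_natCard (c : G))) hodd
  have hz := Lib.ZStar.mem_center_of_isolated hO hiso'
  rcases (inferInstance : (center G).Normal).eq_bot_or_eq_top with e | e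
  · exact hc1' (mem_bot.1 (e ▸ hz))
  · exact hna ⟨⟨fun a b => (mem_center_iff.1 (e ▸ mem_top a : a ∈ center G) b).symm⟩⟩

theorem false_of_twisted [IsSimpleGroup G] (hna : ¬ IsMulCommutative G) (T : Sylow 2 G)
    {E D : Subgroup (T : Subgroup G)} (tw : Twisted E D) : False := by
  haveI : Fact (Nat.Prime 2) := ⟨Nat.prime_two⟩
  obtain ⟨u, huD, hu2⟩ := tw.invol
  have huE : u ∉ E := fun h => huD (tw.le h)
  have hu1 : u ≠ 1 := fun h => huE (h ▸ one_mem _)
  have hEsq : ∀ e ∈ E, e * e = 1 := fun e he => by rw [← pow_two, tw.sq e he]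
  -- Thompson transfer
  set Q : Subgroup G := D.map (T : Subgroup G).subtype with hQ
  have hQle : Q ≤ (T : Subgroup G) := map_subtype_le D
  have hQi : Q.relIndex (T : Subgroup G) = 2 := by
    rw [relIndex, subgroupOf, hQ, comap_map_eq_self_of_injective (Subgroup.subtype_injective _), tw.index]
  have huo : orderOf (u : G) = 2 := by
    rw [Subgroup.orderOf_coe]; exact orderOf_eq_prime hu2 hu1
  rcases Cfsg.Agent.S0111.result T Q hQle hQi (u : G) huo u.2 (fun h => by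
      obtain ⟨x, hx, he⟩ := h
      exact huD (Subtype.ext he ▸ hx)) with ⟨M, hM, hMi, -⟩ | ⟨g0, hg0⟩
  · rcases hM.eq_bot_or_eq_top with e | e
    · rw [e, index_bot] at hMi
      exact card_ne_one_of_simple hna (IsPGroup.of_card (n := 1) (by rw [hMi, pow_one]))
    · rw [e, index_top] at hMi
      omega
  obtain ⟨d, hdD, hd⟩ := hg0
  have hd' : (d : G) = g0 * (u : G) * g0⁻¹ := hd
  have hd2 : d ^ 2 = 1 := Subtype.ext (by
    rw [SubmonoidClass.coe_pow, hd', conj_pow, ← SubmonoidClass.coe_pow, hu2, Subgroup.coe_one, mul_one,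
      mul_inv_cancel])
  have hdE : d ∈ E := tw.omega d hdD hd2
  have hd1 : d ≠ 1 := fun h => hu1 (Subtype.ext (conj_eq_one_iff.1
    (by rw [← hd', h]; rfl : g0 * (u : G) * g0⁻¹ = 1)))
  -- the elementary group of order eight
  obtain ⟨V0, hV0, hV0c⟩ := exists_double E (x := u) (by rw [hu2]; exact one_mem _)
    (fun e he => by rw [tw.central e he u, mul_inv_cancel_right]; exact he)
  have hV0card : Nat.card V0 = 8 := by rw [hV0c huE, tw.card]
  have hshape : ∀ v ∈ V0, ∃ e ∈ E, v = e ∨ v = u * e := fun v hv => by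
    rcases (hV0 v).1 hv with h | h
    exacts [⟨v, h, Or.inl rfl⟩, ⟨_, h, Or.inr (mul_inv_cancel_left u v).symm⟩]
  have hV0u : ∀ v ∈ V0, v * u = u * v := fun v hv => by
    obtain ⟨e, he, h | h⟩ := hshape v hv <;> rw [h]
    · exact (tw.central e he u).symm
    · rw [mul_assoc, ← tw.central e he u]
  have hV02 : ∀ v ∈ V0, v ^ 2 = 1 := fun v hv => by
    obtain ⟨e, he, h | h⟩ := hshape v hv <;> rw [h]
    · exact tw.sq e he
    · rw [(show Commute u e from tw.central e he u).mul_pow, hu2, tw.sq e he, one_mul]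
  have hEV0 : E ≤ V0 := fun e he => (hV0 e).2 (Or.inl he)
  have huV0 : u ∈ V0 := (hV0 u).2 (Or.inr (by simp))
  set V : Subgroup G := V0.map (T : Subgroup G).subtype with hV
  have hVT : V ≤ (T : Subgroup G) := map_subtype_le V0
  have hVp : IsPGroup 2 V := T.2.to_le hVT
  have hVcard : Nat.card V = 8 := by
    rw [hV, Nat.card_congr (V0.equivMapOfInjective _ (Subgroup.subtype_injective _)).symm.toEquiv, hV0card]
  -- a conjugate of the elementary group inside the Sylow subgroup contains the involutions of `D`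
  have key : ∀ k : G, (∀ v ∈ V, k * v * k⁻¹ ∈ (T : Subgroup G)) → ∃ W : Subgroup (T : Subgroup G),
      (∀ w, w ∈ W ↔ k⁻¹ * (w : G) * k ∈ V) ∧ E ≤ W ∧ ∀ w ∈ W, w ∉ E → w ∉ D := by
    intro k hk
    let W : Subgroup (T : Subgroup G) :=
      (V.comap (MulAut.conj k⁻¹).toMonoidHom).comap (T : Subgroup G).subtype
    have hWmem : ∀ w, w ∈ W ↔ k⁻¹ * (w : G) * k ∈ V := fun w => by
      show (MulAut.conj k⁻¹) (w : G) ∈ V ↔ _
      rw [MulAut.conj_apply, inv_inv]
    have hW2 : ∀ w ∈ W, w ^ 2 = 1 := fun w hw => by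
      obtain ⟨v, hv, he⟩ := (hWmem w).1 hw
      have he' : (w : G) = k * (v : G) * k⁻¹ := by
        rw [show (v : G) = k⁻¹ * (w : G) * k from he]; group
      exact Subtype.ext (by
        rw [SubmonoidClass.coe_pow, he', conj_pow, ← SubmonoidClass.coe_pow, hV02 v hv, Subgroup.coe_one,
          mul_one, mul_inv_cancel])
    have hWcard : 8 ≤ Nat.card W := by
      rw [← hVcard]
      refine Nat.card_le_card_of_injective
        (fun v : V => (⟨⟨k * (v : G) * k⁻¹, hk v v.2⟩, (hWmem _).2 (by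
          show k⁻¹ * (k * (v : G) * k⁻¹) * k ∈ V
          rw [show k⁻¹ * (k * (v : G) * k⁻¹) * k = v by group]; exact v.2)⟩ : W)) fun a b hab => ?_
      exact Subtype.ext (mul_left_cancel (mul_right_cancel
        (congrArg (fun z : W => ((z : (T : Subgroup G)) : G)) hab)))
    have hhalf : Nat.card W ≤ 2 * Nat.card (W ⊓ D : Subgroup (T : Subgroup G)) :=
      card_le_two_mul fun a ha b hb ha' hb' => mem_inf.2 ⟨mul_mem (inv_mem ha) hb,
        (mul_mem_iff_of_index_two tw.index).2 ⟨fun h => absurd (mem_inf.2 ⟨ha, by simpa using h⟩) ha',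
          fun h => absurd (mem_inf.2 ⟨hb, h⟩) hb'⟩⟩
    have hWD : W ⊓ D ≤ E := fun w hw => tw.omega w hw.2 (hW2 w hw.1)
    have heq : W ⊓ D = E := eq_of_le_of_card_ge hWD (by rw [tw.card]; omega)
    exact ⟨W, hWmem, fun e he => (heq.symm ▸ he : e ∈ W ⊓ D).1, fun w hw hwE hwD => hwE (heq ▸ ⟨hw, hwD⟩)⟩
  have hdT : ∀ t ∈ (T : Subgroup G), t * (d : G) = (d : G) * t := fun t ht =>
    congrArg Subtype.val (tw.central d hdE ⟨t, ht⟩)
  obtain ⟨h, hhd, hhV⟩ := exists_into T hdT (V.map (MulAut.conj g0).toMonoidHom) (hVp.map _) (by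
    rintro _ ⟨v, hv, rfl⟩
    obtain ⟨v', hv', rfl⟩ := hv
    show g0 * (v' : G) * g0⁻¹ * (d : G) = (d : G) * (g0 * (v' : G) * g0⁻¹)
    have h1 : (v' : G) * (u : G) = (u : G) * (v' : G) := congrArg Subtype.val (hV0u v' hv')
    rw [hd', show g0 * (v' : G) * g0⁻¹ * (g0 * (u : G) * g0⁻¹) = g0 * ((v' : G) * (u : G)) * g0⁻¹ by group, h1]
    group)
  set g := h * g0 with hg
  have hgu : g * (u : G) * g⁻¹ = d := by
    rw [hg, show h * g0 * (u : G) * (h * g0)⁻¹ = h * (g0 * (u : G) * g0⁻¹) * h⁻¹ by group, ← hd', hhd]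
  have hgV : ∀ v ∈ V, g * v * g⁻¹ ∈ (T : Subgroup G) := fun v hv => by
    rw [hg, show h * g0 * v * (h * g0)⁻¹ = h * (g0 * v * g0⁻¹) * h⁻¹ by group]
    exact hhV _ ⟨v, hv, rfl⟩
  obtain ⟨W, hW, hEW, hWoff⟩ := key g hgV
  -- the common involution of the two hyperplanes
  obtain ⟨f, hf, hf1, e0, he0, he01, hge0⟩ : ∃ f ∈ E, f ≠ 1 ∧ ∃ e0 ∈ E, e0 ≠ 1 ∧
      g * (e0 : G) * g⁻¹ = (f : G) := by
    obtain ⟨f1, hf1, hf11, hf1d⟩ : ∃ f1 ∈ E, f1 ≠ 1 ∧ f1 ≠ d := by
      by_contra hh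
      push Not at hh
      have hsub : (E : Set (T : Subgroup G)) ⊆ {1, d} := fun v hv => by
        by_cases hv1 : v = 1
        · exact Or.inl hv1
        · exact Or.inr (hh v hv hv1)
      have h2 := (Set.ncard_le_ncard hsub (Set.toFinite _)).trans (Set.ncard_insert_le _ _)
      rw [Set.ncard_singleton, ← Nat.card_coe_set_eq] at h2
      have : Nat.card E ≤ 2 := h2
      have := tw.card
      omega
    obtain ⟨v1, hv1, hv1e⟩ := (hW f1).1 (hEW hf1)
    have hv1' : g * (v1 : G) * g⁻¹ = f1 := by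
      rw [show (v1 : G) = g⁻¹ * (f1 : G) * g from hv1e]; group
    obtain ⟨e, he, h | h⟩ := hshape v1 hv1
    · subst h
      exact ⟨f1, hf1, hf11, v1, he, fun hh => hf11 (Subtype.ext (by
        rw [← hv1', hh, Subgroup.coe_one, mul_one, mul_inv_cancel])), hv1'⟩
    · subst h
      refine ⟨d * f1, mul_mem hdE hf1, fun hh => hf1d ?_, e, he, fun hh => hf1d (Subtype.ext ?_), ?_⟩
      · rw [← inv_eq_of_mul_eq_one_right hh, inv_eq_of_mul_eq_one_right (hEsq d hdE)]
      · rw [← hv1', hh, mul_one, hgu]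
      · rw [Subgroup.coe_mul, ← hgu, ← hv1', Subgroup.coe_mul]
        have huu : (u : G) * (u : G) = 1 := by
          rw [← Subgroup.coe_mul, ← pow_two, hu2, Subgroup.coe_one]
        rw [show g * (u : G) * g⁻¹ * (g * ((u : G) * (e : G)) * g⁻¹) = g * ((u : G) * (u : G) * (e : G)) * g⁻¹
          by group, huu, one_mul]
  obtain ⟨e1, he1, he11, he10⟩ : ∃ e1 ∈ E, e1 ≠ 1 ∧ e1 ≠ e0 := by
    by_contra hh
    push Not at hh
    have hsub : (E : Set (T : Subgroup G)) ⊆ {1, e0} := fun v hv => by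
      by_cases hv1 : v = 1
      · exact Or.inl hv1
      · exact Or.inr (hh v hv hv1)
    have h2 := (Set.ncard_le_ncard hsub (Set.toFinite _)).trans (Set.ncard_insert_le _ _)
    rw [Set.ncard_singleton, ← Nat.card_coe_set_eq] at h2
    have : Nat.card E ≤ 2 := h2
    have := tw.card
    omega
  have hVof : ∀ {v : (T : Subgroup G)}, v ∈ V0 → (v : G) ∈ V := fun {v} hv => ⟨v, hv, rfl⟩
  set y : (T : Subgroup G) := ⟨g * (e1 : G) * g⁻¹, hgV _ (hVof (hEV0 he1))⟩ with hy
  have hyW : y ∈ W := (hW y).2 (by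
    show g⁻¹ * (g * (e1 : G) * g⁻¹) * g ∈ V
    rw [show g⁻¹ * (g * (e1 : G) * g⁻¹) * g = (e1 : G) by group]
    exact hVof (hEV0 he1))
  have hdf : d ≠ f := fun hh => huE (by
    have h1 : (u : G) = (e0 : G) := mul_left_cancel (mul_right_cancel
      (hgu.trans ((congrArg Subtype.val hh).trans hge0.symm)))
    rw [Subtype.ext h1]; exact he0)
  have hyE : y ∉ E := fun hyE => by
    have hyG : (y : G) = g * (e1 : G) * g⁻¹ := rfl
    have hback : ∀ z : (T : Subgroup G), g * (z : G) * g⁻¹ = (y : G) → z = e1 := fun z hz => Subtype.ext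
      (mul_left_cancel (mul_right_cancel (hz.trans hyG)))
    rcases klein tw.card.le hdE hf hd1 hf1 hdf (tw.sq d hdE) hyE with h1 | h1 | h1 | h1
    · exact he11 (hback 1 (by rw [h1, Subgroup.coe_one, mul_one, mul_inv_cancel])).symm
    · exact huE (hback u (by rw [hgu, h1]) ▸ he1)
    · exact he10 (hback e0 (by rw [hge0, h1])).symm
    · refine huE ?_
      have h2 : u * e0 = e1 := hback _ (by rw [h1, Subgroup.coe_mul, Subgroup.coe_mul, ← hgu, ← hge0]; group)
      have h3 : u = e1 * e0⁻¹ := eq_mul_inv_of_mul_eq h2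
      rw [h3]; exact mul_mem he1 (inv_mem he0)
  obtain ⟨a', -, ha'2, hya'⟩ := tw.inverts y (hWoff y hyW hyE) f hf
  obtain ⟨a, -, ha2, hua⟩ := tw.inverts u huD e1 he1
  have ha'y : (a' : G) * (y : G) * (a' : G)⁻¹ = (f : G) * (y : G) := by
    have h1 : a' * y * a'⁻¹ = f * y := by
      rw [← ha'2, show a' * y * a'⁻¹ = a' * (y * a'⁻¹ * y⁻¹) * y by group,
        show y * a'⁻¹ * y⁻¹ = (y * a' * y⁻¹)⁻¹ by group, hya', inv_inv, pow_two]
    exact congrArg Subtype.val h1
  have hau : (a : G) * (u : G) * (a : G)⁻¹ = (e1 : G) * (u : G) := by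
    have h1 : a * u * a⁻¹ = e1 * u := by
      rw [← ha2, show a * u * a⁻¹ = a * (u * a⁻¹ * u⁻¹) * u by group,
        show u * a⁻¹ * u⁻¹ = (u * a * u⁻¹)⁻¹ by group, hua, inv_inv, pow_two]
    exact congrArg Subtype.val h1
  have hfixE : ∀ b : (T : Subgroup G), ∀ e ∈ E, (b : G) * (e : G) * (b : G)⁻¹ = (e : G) := fun b e he => by
    have h1 : b * e * b⁻¹ = e := by rw [tw.central e he b, mul_inv_cancel_right]
    exact congrArg Subtype.val h1
  -- the action of the product on the elementary group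
  set m : G := g⁻¹ * (a' : G) * g * (a : G) with hm
  have hconj : ∀ z : G, m * z * m⁻¹ = g⁻¹ * ((a' : G) * (g * ((a : G) * z * (a : G)⁻¹) * g⁻¹) * (a' : G)⁻¹) * g := by
    intro z; rw [hm]; group
  have hm0 : m * (e0 : G) * m⁻¹ = e0 := by
    rw [hconj, hfixE a e0 he0, hge0, hfixE a' f hf, ← hge0]; group
  have hm1 : m * (e1 : G) * m⁻¹ = (e0 : G) * (e1 : G) := by
    rw [hconj, hfixE a e1 he1, show g * (e1 : G) * g⁻¹ = (y : G) from rfl, ha'y, ← hge0,
      show (y : G) = g * (e1 : G) * g⁻¹ from rfl]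
    group
  have hmu : m * (u : G) * m⁻¹ = (e0 : G) * (e1 : G) * (u : G) := by
    rw [hconj, hau, show g * ((e1 : G) * (u : G)) * g⁻¹ = (g * (e1 : G) * g⁻¹) * (g * (u : G) * g⁻¹) by group,
      hgu, show g * (e1 : G) * g⁻¹ = (y : G) from rfl,
      show (a' : G) * ((y : G) * (d : G)) * (a' : G)⁻¹
        = ((a' : G) * (y : G) * (a' : G)⁻¹) * ((a' : G) * (d : G) * (a' : G)⁻¹) by group,
      ha'y, hfixE a' d hdE, ← hge0, ← hgu, show (y : G) = g * (e1 : G) * g⁻¹ from rfl]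
    group
  have he00 : (e0 : G) * (e0 : G) = 1 := by rw [← Subgroup.coe_mul, hEsq e0 he0, Subgroup.coe_one]
  have he11' : (e1 : G) * (e1 : G) = 1 := by rw [← Subgroup.coe_mul, hEsq e1 he1, Subgroup.coe_one]
  have he0c : (e1 : G) * (e0 : G) = (e0 : G) * (e1 : G) := congrArg Subtype.val (tw.central e0 he0 e1)
  have hm2u : m ^ 2 * (u : G) * (m ^ 2)⁻¹ = (e0 : G) * (u : G) := by
    rw [pow_two, show m * m * (u : G) * (m * m)⁻¹ = m * (m * (u : G) * m⁻¹) * m⁻¹ by group, hmu,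
      show m * ((e0 : G) * (e1 : G) * (u : G)) * m⁻¹
        = (m * (e0 : G) * m⁻¹) * (m * (e1 : G) * m⁻¹) * (m * (u : G) * m⁻¹) by group, hm0, hm1, hmu]
    rw [show (e0 : G) * ((e0 : G) * (e1 : G)) * ((e0 : G) * (e1 : G) * (u : G))
      = ((e0 : G) * (e0 : G)) * ((e1 : G) * (e0 : G)) * ((e1 : G) * (u : G)) by group, he00, he0c, one_mul,
      mul_assoc, ← mul_assoc (e1 : G), he11', one_mul]
  have hm4u : m ^ 4 * (u : G) * (m ^ 4)⁻¹ = (u : G) := by
    rw [show m ^ 4 = m ^ 2 * m ^ 2 from pow_add m 2 2,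
      show m ^ 2 * m ^ 2 * (u : G) * (m ^ 2 * m ^ 2)⁻¹ = m ^ 2 * (m ^ 2 * (u : G) * (m ^ 2)⁻¹) * (m ^ 2)⁻¹ by group,
      hm2u, show m ^ 2 * ((e0 : G) * (u : G)) * (m ^ 2)⁻¹
        = (m ^ 2 * (e0 : G) * (m ^ 2)⁻¹) * (m ^ 2 * (u : G) * (m ^ 2)⁻¹) by group, hm2u,
      show m ^ 2 * (e0 : G) * (m ^ 2)⁻¹ = m * (m * (e0 : G) * m⁻¹) * m⁻¹ by rw [pow_two]; group, hm0, hm0,
      ← mul_assoc, he00, one_mul]
  have hgenV : V = closure {(e0 : G), (e1 : G), (u : G)} := by
    refine le_antisymm ?_ ((closure_le _).2 ?_)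
    · rintro _ ⟨v, hv, rfl⟩
      have hE' : ∀ e ∈ E, (e : G) ∈ closure ({(e0 : G), (e1 : G), (u : G)} : Set G) := fun e he => by
        have m0 : (e0 : G) ∈ closure ({(e0 : G), (e1 : G), (u : G)} : Set G) := subset_closure (Or.inl rfl)
        have m1 : (e1 : G) ∈ closure ({(e0 : G), (e1 : G), (u : G)} : Set G) :=
          subset_closure (Or.inr (Or.inl rfl))
        rcases klein tw.card.le he0 he1 he01 he11 (Ne.symm he10) (tw.sq e0 he0) he with h1 | h1 | h1 | h1 <;>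
          rw [h1]
        · exact one_mem _
        · exact m0
        · exact m1
        · exact mul_mem m0 m1
      obtain ⟨e, he, h1 | h1⟩ := hshape v hv <;> subst h1
      · exact hE' _ he
      · exact mul_mem (subset_closure (Or.inr (Or.inr rfl))) (hE' e he)
    · rintro x (rfl | rfl | rfl)
      exacts [hVof (hEV0 he0), hVof (hEV0 he1), hVof huV0]
  have hmV : ∀ v ∈ V, m * v * m⁻¹ ∈ V := by
    intro v hv
    have hle : V ≤ V.comap (MulAut.conj m).toMonoidHom := by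
      conv_lhs => rw [hgenV]
      rw [closure_le]
      rintro x (rfl | rfl | rfl)
      · show m * (e0 : G) * m⁻¹ ∈ V
        rw [hm0]; exact hVof (hEV0 he0)
      · show m * (e1 : G) * m⁻¹ ∈ V
        rw [hm1]; exact mul_mem (hVof (hEV0 he0)) (hVof (hEV0 he1))
      · show m * (u : G) * m⁻¹ ∈ V
        rw [hmu]; exact mul_mem (mul_mem (hVof (hEV0 he0)) (hVof (hEV0 he1))) (hVof huV0)
    exact hle hv
  have hmN : m ∈ normalizer (V : Set G) :=
    Subgroup.mem_normalizer_iff''.2 fun v => by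
      let σ : V → V := fun z => ⟨m * (z : G) * m⁻¹, hmV z z.2⟩
      have hσ : Function.Injective σ := fun a b hab =>
        Subtype.ext (mul_left_cancel (mul_right_cancel (congrArg Subtype.val hab)))
      refine ⟨fun hv => ?_, fun hv => ?_⟩
      · obtain ⟨z, hz⟩ := hσ.bijective_of_finite.2 ⟨v, hv⟩
        rw [← show m * (z : G) * m⁻¹ = v from congrArg Subtype.val hz,
          show m⁻¹ * (m * (z : G) * m⁻¹) * m = z by group]
        exact z.2
      · have h1 := hmV _ hv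
        rwa [show m * (m⁻¹ * v * m) * m⁻¹ = v by group] at h1
  obtain ⟨j, k, hk, hjk⟩ := Nat.exists_eq_two_pow_mul_odd (orderOf_pos m).ne'
  obtain ⟨q, rfl⟩ := hk
  set s := m ^ (2 * q + 1) with hs
  have hsp : IsPGroup 2 (zpowers s) := by
    have h1 : s ^ 2 ^ j = 1 := by rw [hs, ← pow_mul, mul_comm, ← hjk, pow_orderOf_eq_one]
    obtain ⟨i, -, hi⟩ := (Nat.dvd_prime_pow Nat.prime_two).1 (orderOf_dvd_of_pow_eq_one h1)
    exact IsPGroup.of_card (n := i) (by rw [Nat.card_zpowers, hi])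
  have hsN : zpowers s ≤ normalizer (V : Set G) := zpowers_le.2 (pow_mem hmN _)
  have hSV : IsPGroup 2 (zpowers s ⊔ V : Subgroup G) := hsp.to_sup_of_normal_right' hVp hsN
  obtain ⟨R, hR⟩ := hSV.exists_le_sylow
  obtain ⟨k, hk⟩ := MulAction.exists_smul_eq G R T
  have hkmem : ∀ x ∈ (zpowers s ⊔ V : Subgroup G), k * x * k⁻¹ ∈ (T : Subgroup G) := fun x hx => by
    rw [← hk, Sylow.coe_subgroup_smul]
    exact ⟨x, hR hx, rfl⟩
  obtain ⟨W', hW', hEW', hW'off⟩ := key k fun v hv => hkmem v (mem_sup_right hv)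
  set t : (T : Subgroup G) := ⟨k * s * k⁻¹, hkmem s (mem_sup_left (mem_zpowers s))⟩ with ht
  set w : (T : Subgroup G) := ⟨k * (u : G) * k⁻¹, hkmem _ (mem_sup_right (hVof huV0))⟩ with hw
  have hwW : w ∈ W' := (hW' w).2 (by
    show k⁻¹ * (k * (u : G) * k⁻¹) * k ∈ V
    rw [show k⁻¹ * (k * (u : G) * k⁻¹) * k = (u : G) by group]
    exact hVof huV0)
  have htwW : t * w * t⁻¹ ∈ W' := (hW' _).2 (by
    show k⁻¹ * (k * s * k⁻¹ * (k * (u : G) * k⁻¹) * (k * s * k⁻¹)⁻¹) * k ∈ V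
    rw [show k⁻¹ * (k * s * k⁻¹ * (k * (u : G) * k⁻¹) * (k * s * k⁻¹)⁻¹) * k = s * (u : G) * s⁻¹ by group]
    exact ((Subgroup.mem_normalizer_iff.1 (pow_mem hmN (2 * q + 1))) (u : G)).1 (hVof huV0))
  have ht2w : t ^ 2 * w * (t ^ 2)⁻¹ = w := by
    by_cases hwE : w ∈ E
    · rw [tw.central w hwE, mul_inv_cancel_right]
    have hwD := hW'off w hwW hwE
    have htwE : t * w * t⁻¹ * w⁻¹ ∈ E := by
      by_contra hne
      refine hW'off _ (mul_mem htwW (inv_mem hwW)) hne ?_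
      refine (mul_mem_iff_of_index_two tw.index).2 ⟨fun hh => absurd ?_ hwD, fun hh => absurd (inv_mem_iff.1 hh) hwD⟩
      haveI : D.Normal := normal_of_index_eq_two tw.index
      have h1 := (inferInstance : D.Normal).conj_mem _ hh t⁻¹
      rwa [show t⁻¹ * (t * w * t⁻¹) * t⁻¹⁻¹ = w by group] at h1
    set e := t * w * t⁻¹ * w⁻¹ with he
    have htw : t * w * t⁻¹ = e * w := by rw [he]; group
    rw [pow_two, show t * t * w * (t * t)⁻¹ = t * (t * w * t⁻¹) * t⁻¹ by group, htw,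
      show t * (e * w) * t⁻¹ = (t * e * t⁻¹) * (t * w * t⁻¹) by group, htw, tw.central e htwE t,
      mul_inv_cancel_right, ← mul_assoc, hEsq e htwE, one_mul]
  have hs2u : s ^ 2 * (u : G) * (s ^ 2)⁻¹ = (u : G) := by
    have h1 := congrArg Subtype.val ht2w
    rw [Subgroup.coe_mul, Subgroup.coe_mul, InvMemClass.coe_inv, SubmonoidClass.coe_pow,
      show ((t : (T : Subgroup G)) : G) = k * s * k⁻¹ from rfl,
      show ((w : (T : Subgroup G)) : G) = k * (u : G) * k⁻¹ from rfl, conj_pow,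
      show k * s ^ 2 * k⁻¹ * (k * (u : G) * k⁻¹) * (k * s ^ 2 * k⁻¹)⁻¹
        = k * (s ^ 2 * (u : G) * (s ^ 2)⁻¹) * k⁻¹ by group] at h1
    exact mul_left_cancel (mul_right_cancel h1)
  have h4q : ∀ i : ℕ, (m ^ 4) ^ i * (u : G) * ((m ^ 4) ^ i)⁻¹ = (u : G) := by
    intro i
    induction i with
    | zero => simp
    | succ i ih =>
      rw [pow_succ', show m ^ 4 * (m ^ 4) ^ i * (u : G) * (m ^ 4 * (m ^ 4) ^ i)⁻¹
        = m ^ 4 * ((m ^ 4) ^ i * (u : G) * ((m ^ 4) ^ i)⁻¹) * (m ^ 4)⁻¹ by group, ih, hm4u]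
  rw [show s ^ 2 = m ^ 2 * (m ^ 4) ^ q by rw [hs, ← pow_mul, ← pow_mul, ← pow_add]; congr 1; ring,
    show m ^ 2 * (m ^ 4) ^ q * (u : G) * (m ^ 2 * (m ^ 4) ^ q)⁻¹
      = m ^ 2 * ((m ^ 4) ^ q * (u : G) * ((m ^ 4) ^ q)⁻¹) * (m ^ 2)⁻¹ by group, h4q, hm2u, mul_eq_right] at hs2u
  exact he01 (Subtype.ext hs2u)

/-- A Sylow 2-subgroup of normal rank two with an extra normalizer has order 4, 64 or 128. -/
theorem card_cases [IsSimpleGroup G] (hna : ¬ IsMulCommutative G) (T : Sylow 2 G)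
    (hd2 : ∀ A : Subgroup (T : Subgroup G), A.Normal → IsMulCommutative ↥A →
      ∃ a b : (T : Subgroup G), Subgroup.closure {a, b} = A)
    (hN : ¬ Subgroup.normalizer ((T : Subgroup G) : Set G) ≤
      (T : Subgroup G) ⊔ Subgroup.centralizer ((T : Subgroup G) : Set G)) :
    Nat.card (T : Subgroup G) = 4 ∨ Nat.card (T : Subgroup G) = 64 ∨ Nat.card (T : Subgroup G) = 128 := by
  obtain ⟨α, r, hr, hr2, hα, hne⟩ := exists_auto T hN
  obtain ⟨C, s⟩ := exists_setting T.2 (noEight_of_two_gen hd2) hr hr2 hα hne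
  by_cases hfix : ∀ z ∈ Zc C, α z = z
  · rcases (⟨s, hfix⟩ : Fixing α r C).typeTwo with h | h | h
    exacts [Or.inr (Or.inl h), Or.inr (Or.inr h), (false_of_isolated hna T h).elim]
  · push Not at hfix
    rcases s.typeOne hfix with h | h | h | h | ⟨E, D, h⟩
    exacts [Or.inl h, Or.inr (Or.inl h), Or.inr (Or.inr h), (false_of_homocyclic hna T h).elim,
      (false_of_twisted hna T h).elim]

end Cfsg.Lib.NormalRankTwo
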