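import Cfsg.Agent.Lib.NormalRankTwo.Basic
import Cfsg.Agent.S0093
import Cfsg.Agent.S0121

/-!
# A critical subgroup moved by an automorphism of odd prime order
-/

set_option autoImplicit false

namespace Cfsg.Lib.NormalRankTwo

open Subgroup
open scoped commutatorElement

universe u

variable {P : Type u} [Group P]

/-- The centre of a subgroup, inside the whole group. -/
def Zc (C : Subgroup P) : Subgroup P := C ⊓ centralizer (C : Set P)

theorem mem_zc {C : Subgroup P} {y : P} :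
    y ∈ Zc C ↔ y ∈ C ∧ ∀ x ∈ C, x * y = y * x :=
  Iff.rfl.trans (and_congr_right fun _ => mem_centralizer_iff)

theorem zc_comm {C : Subgroup P} {x y : P} (hx : x ∈ C) (hy : y ∈ Zc C) : x * y = y * x :=
  (mem_zc.1 hy).2 x hx

/-- The involutions of the centre of a subgroup. -/
def Ec (C : Subgroup P) : Subgroup P where
  carrier := {e | e ∈ Zc C ∧ e ^ 2 = 1}
  one_mem' := ⟨one_mem _, one_pow _⟩
  mul_mem' := fun {a b} ha hb => ⟨mul_mem ha.1 hb.1, by
    rw [(show Commute a b from zc_comm ha.1.1 hb.1).mul_pow, ha.2, hb.2, one_mul]⟩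
  inv_mem' := fun {a} ha => ⟨inv_mem ha.1, by rw [inv_pow, ha.2, inv_one]⟩

theorem mem_ec {C : Subgroup P} {e : P} : e ∈ Ec C ↔ e ∈ Zc C ∧ e ^ 2 = 1 := Iff.rfl

/-- The configuration. -/
structure Setting (α : MulAut P) (r : ℕ) (C : Subgroup P) : Prop where
  isP : IsPGroup 2 P
  h8 : NoEight P
  pr : r.Prime
  ne2 : r ≠ 2
  pow : α ^ r = 1
  chr : C.Characteristic
  cent : centralizer (C : Set P) ≤ C
  comm : ∀ x ∈ C, ∀ t : P, ⁅t, x⁆ ∈ Zc C
  sq : ∀ x ∈ C, x ^ 2 ∈ Zc C
  moves : ∃ x ∈ C, α x ≠ x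

theorem exists_setting [Finite P] (hP : IsPGroup 2 P) (h8 : NoEight P) {α : MulAut P} {r : ℕ}
    (hr : r.Prime) (hr2 : r ≠ 2) (hα : α ^ r = 1) (hne : α ≠ 1) : ∃ C, Setting α r C := by
  haveI : Fact (Nat.Prime 2) := ⟨Nat.prime_two⟩
  obtain ⟨C, hC, h1, h2, h3⟩ := Cfsg.Agent.S0093.result hP
  refine ⟨C, hP, h8, hr, hr2, hα, hC, h3, fun x hx t => ?_, fun x hx => ?_, ?_⟩
  · rw [← commutatorElement_inv]
    exact inv_mem (h2 (commutator_mem_commutator hx (mem_top t)))
  · refine ⟨pow_mem hx 2, h1 ⟨⟨x, hx⟩ ^ 2, PGroup.pow_mem_frattini (hP.to_subgroup C) ⟨x, hx⟩, rfl⟩⟩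
  · by_contra h
    push Not at h
    refine hne (Cfsg.Agent.S0121.result hP C hC h1 h2 h3 α ?_ h)
    refine Nat.Coprime.coprime_dvd_left (orderOf_dvd_of_pow_eq_one hα) ?_
    exact (Nat.coprime_primes hr Nat.prime_two).2 hr2

theorem klein {E : Subgroup P} [Finite P] (hE : Nat.card E ≤ 4) {f g : P} (hf : f ∈ E) (hg : g ∈ E)
    (hf1 : f ≠ 1) (hg1 : g ≠ 1) (hfg : f ≠ g) (hsq : f ^ 2 = 1) {y : P} (hy : y ∈ E) :
    y = 1 ∨ y = f ∨ y = g ∨ y = f * g := by
  have h4 : f * g ≠ 1 := fun h => hfg (by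
    rw [← inv_eq_of_mul_eq_one_right h, inv_eq_of_mul_eq_one_right (show f * f = 1 by rw [← pow_two, hsq])])
  have hsub : ({1, f, g, f * g} : Set P) ⊆ (E : Set P) := by
    intro x hx
    rcases hx with rfl | rfl | rfl | rfl
    exacts [one_mem _, hf, hg, mul_mem hf hg]
  have hn : ({1, f, g, f * g} : Set P).ncard = 4 := by
    rw [Set.ncard_insert_of_notMem (by simp [Ne.symm hf1, Ne.symm hg1, Ne.symm h4]),
      Set.ncard_insert_of_notMem (by simp [hfg, hg1]),
      Set.ncard_insert_of_notMem (by simp [hf1]), Set.ncard_singleton]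
  have he := Set.eq_of_subset_of_ncard_le hsub (by rw [hn, ← Nat.card_coe_set_eq]; exact hE)
  have : y ∈ ({1, f, g, f * g} : Set P) := he ▸ hy
  simpa using this

variable {α : MulAut P} {r : ℕ} {C : Subgroup P}

theorem map_mem_of_char {H : Subgroup P} (h : H.Characteristic) {x : P} (hx : x ∈ H) : α x ∈ H :=
  Subgroup.characteristic_iff_le_comap.1 h α hx

theorem normal_of_char {H : Subgroup P} (h : H.Characteristic) : H.Normal :=
  haveI := h
  inferInstance

theorem Setting.zc_char (_s : Setting α r C) (β : MulAut P) {z : P} (hz : z ∈ Zc C) : β z ∈ Zc C := by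
  have hC := _s.chr
  refine mem_zc.2 ⟨map_mem_of_char hC hz.1, fun x hx => ?_⟩
  have hx' : β.symm x ∈ C := map_mem_of_char (α := β.symm) hC hx
  have h := congrArg β (zc_comm hx' hz)
  simpa using h

theorem Setting.ec_normal (s : Setting α r C) : (Ec C).Normal :=
  ⟨fun e he t => ⟨by
    have h := s.zc_char (MulAut.conj t) he.1
    simpa using h, by rw [conj_pow, he.2, mul_one, mul_inv_cancel]⟩⟩

theorem Setting.zc_normal (s : Setting α r C) : (Zc C).Normal :=
  ⟨fun e he t => by simpa using s.zc_char (MulAut.conj t) he⟩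

theorem Setting.ec_map (s : Setting α r C) {e : P} (he : e ∈ Ec C) : α e ∈ Ec C :=
  ⟨s.zc_char α he.1, by rw [← map_pow, he.2, map_one]⟩

theorem Setting.ec_comm (_s : Setting α r C) : ∀ a ∈ Ec C, ∀ b ∈ Ec C, a * b = b * a :=
  fun _ ha _ hb => zc_comm ha.1.1 hb.1

theorem Setting.ec_card [Finite P] (s : Setting α r C) : Nat.card (Ec C) ≤ 4 :=
  s.h8 _ s.ec_normal ⟨⟨fun a b => Subtype.ext (s.ec_comm a a.2 b b.2)⟩⟩ fun a ha => ha.2

theorem Setting.zc_of_centralizes (s : Setting α r C) {y : P} (h : ∀ x ∈ C, x * y = y * x) :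
    y ∈ Zc C :=
  mem_zc.2 ⟨s.cent (mem_centralizer_iff.2 h), h⟩

/-- Commutators inside the critical subgroup are central involutions. -/
theorem Setting.comm_ec (s : Setting α r C) {x y : P} (hx : x ∈ C) (hy : y ∈ C) : ⁅x, y⁆ ∈ Ec C := by
  have hk := s.comm y hy x
  refine ⟨hk, ?_⟩
  rw [pow_two, ← comm_mul_left_central (zc_comm hx hk)]
  have h2 : x * x ∈ Zc C := by rw [← pow_two]; exact s.sq x hx
  exact commutatorElement_eq_one_iff_mul_comm.2 (zc_comm hy h2).symm

/-- An involution of `C` outside its centre contradicts the rank condition when the central involutions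
form a group of order four. -/
theorem Setting.not_involution [Finite P] (s : Setting α r C) (h4 : 4 ≤ Nat.card (Ec C)) {m : P}
    (hm : m ^ 2 = 1) (hmE : ∀ e ∈ Ec C, m * e = e * m) (hmZ : ∀ t : P, ⁅t, m⁆ ∈ Zc C)
    (hmC : ∀ z ∈ Zc C, m * z = z * m) : m ∈ Ec C := by
  haveI := s.ec_normal
  refine not_extend s.h8 (Ec C) s.ec_comm (fun e he => he.2) h4 hm hmE fun t => ⟨?_, ?_⟩
  · exact (commutatorElement_def t m) ▸ hmZ t
  · have hk : m * ⁅t, m⁆ = ⁅t, m⁆ * m := hmC _ (hmZ t)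
    rw [← commutatorElement_def, pow_two, ← comm_mul_right_central hk,
      show m * m = 1 by rw [← pow_two, hm], commutatorElement_one_right]

end Cfsg.Lib.NormalRankTwo
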