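import Cfsg.Agent.Lib.NormalRankTwo.TypeTwo

/-!
# Squares in the centre of the critical subgroup
-/

set_option autoImplicit false
set_option linter.unusedSimpArgs false
set_option linter.style.haveILetI false

namespace Cfsg.Lib.NormalRankTwo

open Subgroup
open scoped commutatorElement

universe u

variable {P : Type u} [Group P] [Finite P] {α : MulAut P} {r : ℕ} {C : Subgroup P}

/-- An element has a square root in the centre. -/
def IsSq (C : Subgroup P) (y : P) : Prop := ∃ ζ ∈ Zc C, ζ ^ 2 = y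

theorem isSq_mul {y y' : P} (h : IsSq C y) (h' : IsSq C y') : IsSq C (y * y') := by
  obtain ⟨a, ha, rfl⟩ := h
  obtain ⟨b, hb, rfl⟩ := h'
  exact ⟨a * b, mul_mem ha hb, (show Commute a b from zc_comm ha.1 hb).mul_pow 2⟩

theorem isSq_inv {y : P} (h : IsSq C y) : IsSq C y⁻¹ := by
  obtain ⟨a, ha, rfl⟩ := h
  exact ⟨a⁻¹, inv_mem ha, inv_pow a 2⟩

/-- An involution outside the centre is ruled out when the central involutions form a four-group. -/
theorem Fixing.no_involution (s : Fixing α r C) (h4 : Nat.card (Ec C) = 4) {m : P} (hm : m ∈ Mz C)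
    (hmZ : ∀ t : P, ⁅t, m⁆ ∈ Zc C) (hm2 : m ^ 2 = 1) : m ∈ Zc C :=
  (s.not_involution h4.ge hm2 (fun e he => (mem_mz.1 hm e he.1).symm) hmZ
    (fun z hz => (mem_mz.1 hm z hz).symm)).1

/-- The square of an element moved by the automorphism is a commutator. -/
theorem Fixing.moved_sq (s : Fixing α r C) {y : P} (hy : y ∈ C) :
    (y⁻¹ * α y) ^ 2 = ⁅y, α y⁆ := by
  have hαy := s.c_map y hy
  have hk : ⁅α y, y⁻¹⁆ ∈ Zc C := s.comm _ (inv_mem hy) _
  rw [mul_sq_central (x := y⁻¹) (y := α y) (by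
    rintro w (rfl | rfl)
    · exact zc_comm (inv_mem hy) hk
    · exact zc_comm hαy hk)]
  have h1 : ⁅α y, y⁻¹⁆ = ⁅y, α y⁆ := by
    have h := comm_mul_right_central (x := α y) (y := y⁻¹) (z := y) (zc_comm (inv_mem hy) (s.comm y hy _))
    rw [inv_mul_cancel, commutatorElement_one_right] at h
    rw [eq_inv_of_mul_eq_one_left h.symm, commutatorElement_inv]
  rw [h1, ← map_pow, s.fix _ (s.sq y hy), inv_pow, inv_mul_cancel, one_mul]

theorem Fixing.moved_not_mem (s : Fixing α r C) {y : P} (hne : α y ≠ y) :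
    y⁻¹ * α y ∉ Zc C := fun h =>
  hne (fixed_of_trivial s.isP s.pr s.ne2 s.pow (Zc C) s.fix h)

/-- An element moved by the automorphism does not square to a square of the centre. -/
theorem Fixing.moved_not_isSq (s : Fixing α r C) (h4 : Nat.card (Ec C) = 4) {y : P} (hy : y ∈ C)
    (hne : α y ≠ y) : ¬ IsSq C ⁅y, α y⁆ := by
  rintro ⟨ζ, hζ, he⟩
  have hm : y⁻¹ * α y * ζ⁻¹ ∈ C := mul_mem (mul_mem (inv_mem hy) (s.c_map y hy)) (inv_mem hζ.1)
  have h := s.no_involution h4 (le_mz hm) (fun t => s.comm _ hm t) (by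
    rw [(show Commute (y⁻¹ * α y) ζ⁻¹ from
      zc_comm (mul_mem (inv_mem hy) (s.c_map y hy)) (inv_mem hζ)).mul_pow, s.moved_sq hy, inv_pow, he,
      mul_inv_cancel])
  exact s.moved_not_mem hne (by simpa using mul_mem h hζ)

/-- A generator of the centre up to involutions. -/
theorem Fixing.exists_gen (s : Fixing α r C) (hn : ∃ ζ ∈ Zc C, ζ ^ 2 ≠ 1) :
    ∃ w ∈ Zc C, ∃ z ∈ Ec C, ∃ N : ℕ, Even N ∧ w ^ N = z ∧ z ≠ 1 ∧ IsSq C z ∧
      ∀ y ∈ Zc C, ∃ i : ℤ, ∃ e ∈ Ec C, y = w ^ i * e := by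
  classical
  have hex : ∃ k, ∀ y ∈ Zc C, y ^ 2 ^ k = 1 := by
    haveI : Fact (Nat.Prime 2) := ⟨Nat.prime_two⟩
    obtain ⟨n, hn'⟩ := IsPGroup.iff_card.1 (s.isP.to_subgroup (Zc C))
    refine ⟨n, fun y hy => ?_⟩
    have h : ((⟨y, hy⟩ : Zc C)) ^ 2 ^ n = 1 := by rw [← hn']; exact pow_card_eq_one'
    simpa using congrArg Subtype.val h
  set k := Nat.find hex with hkdef
  have hk := Nat.find_spec hex
  rw [← hkdef] at hk
  obtain ⟨ζ0, hζ0, hζ02⟩ := hn
  have hk2 : 2 ≤ k := by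
    by_contra hlt
    have hlt' : k = 0 ∨ k = 1 := by omega
    have := hk ζ0 hζ0
    rcases hlt' with h | h <;> rw [h] at this
    · exact hζ02 (by rw [pow_zero, pow_one] at this; rw [this, one_pow])
    · exact hζ02 (by simpa using this)
  obtain ⟨w, hw, hw1⟩ : ∃ w ∈ Zc C, w ^ 2 ^ (k - 1) ≠ 1 := by
    have h := Nat.find_min hex (m := k - 1) (by omega)
    push Not at h
    exact h
  set N := 2 ^ (k - 1) with hN
  have hNe : Even N := by
    rw [hN, show k - 1 = (k - 2) + 1 by omega, pow_succ]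
    exact even_two.mul_left _
  have h2N : ∀ y ∈ Zc C, y ^ (N * 2) = 1 := fun y hy => by
    rw [hN, ← pow_succ, Nat.sub_add_cancel (by omega : 1 ≤ k)]
    exact hk y hy
  have hzE : w ^ N ∈ Ec C := ⟨pow_mem hw _, by rw [← pow_mul]; exact h2N w hw⟩
  have hzSq : IsSq C (w ^ N) := by
    obtain ⟨M, hM⟩ := hNe
    exact ⟨w ^ M, pow_mem hw _, by rw [← pow_mul, hM, mul_two]⟩
  refine ⟨w, hw, w ^ N, hzE, N, hNe, rfl, hw1, hzSq, ?_⟩
  obtain ⟨M, hM⟩ := hNe
  have hsmall : ∀ e ∈ Ec C, IsSq C e → e = 1 ∨ e = w ^ N := by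
    intro e he hes
    by_contra hcon
    push Not at hcon
    have h4 : Nat.card (Ec C) = 4 := by
      rcases s.ec_cases with ⟨c, -, -, hE⟩ | h
      · exfalso
        have hwc : w ^ N = c := ((hE _).1 hzE).resolve_left hw1
        rcases (hE e).1 he with h' | h'
        exacts [hcon.1 h', hcon.2 (h'.trans hwc.symm)]
      · exact h
    obtain ⟨x, hx, hne⟩ := s.moves
    refine s.moved_not_isSq h4 hx hne ?_
    rcases klein h4.le hzE he hw1 hcon.1 (Ne.symm hcon.2) hzE.2 (s.comm_ec hx (s.c_map x hx))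
      with h | h | h | h <;> rw [h]
    exacts [⟨1, one_mem _, one_pow 2⟩, hzSq, hes, isSq_mul hzSq hes]
  have key : ∀ (j : ℕ) (y : P), y ∈ Zc C → y ^ 2 ^ j = 1 → ∃ i : ℤ, ∃ e ∈ Ec C, y = w ^ i * e := by
    intro j
    induction j with
    | zero => intro y _ h; rw [pow_zero, pow_one] at h; exact ⟨0, 1, one_mem _, by simp [h]⟩
    | succ j ih =>
      intro y hy h
      obtain ⟨i, e, he, hye⟩ := ih (y ^ 2) (pow_mem hy 2) (by rw [← pow_mul, ← pow_succ', h])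
      rcases Int.even_or_odd i with ⟨i', hi⟩ | ⟨i', hi⟩
      · have hes : IsSq C e := by
          have h2 : e = (w ^ i')⁻¹ ^ 2 * y ^ 2 := by
            rw [hye, hi, pow_two, zpow_add]; group
          rw [h2]
          exact isSq_mul ⟨_, inv_mem (zpow_mem hw i'), rfl⟩ ⟨y, hy, rfl⟩
        obtain ⟨m, hm⟩ : ∃ m : ℤ, y ^ 2 = w ^ (m + m) := by
          rcases hsmall e he hes with h1 | h1
          · exact ⟨i', by rw [hye, hi, h1, mul_one]⟩
          · refine ⟨i' + M, ?_⟩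
            rw [hye, hi, h1, ← zpow_natCast w N, ← zpow_add]
            congr 1
            push_cast [hM]
            ring
        refine ⟨m, (w ^ m)⁻¹ * y, ⟨mul_mem (inv_mem (zpow_mem hw m)) hy, ?_⟩, (mul_inv_cancel_left _ _).symm⟩
        rw [(show Commute (w ^ m)⁻¹ y from zc_comm (inv_mem (zpow_mem hw m)).1 hy).mul_pow, hm, zpow_add,
          inv_pow, pow_two, inv_mul_cancel]
      · exfalso
        have h1 := h2N y hy
        rw [mul_comm, pow_mul, hye,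
          (show Commute (w ^ i) e from zc_comm (zpow_mem hw i).1 he.1).mul_pow] at h1
        have he1 : e ^ N = 1 := by rw [hM, ← mul_two, mul_comm, pow_mul, he.2, one_pow]
        rw [he1, mul_one, ← zpow_natCast, ← zpow_mul, hi, show (2 * i' + 1) * (N : ℤ) = (N * 2 : ℕ) * i' + N by
          push_cast; ring, zpow_add, zpow_mul, zpow_natCast, zpow_natCast, h2N w hw, one_zpow, one_mul] at h1
        exact hw1 h1
  intro y hy
  exact key k y hy (hk y hy)

/-- A section with many elements squaring into `E` times squares is impossible. -/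
theorem Fixing.no_three (s : Fixing α r C) (hn : ∃ ζ ∈ Zc C, ζ ^ 2 ≠ 1) (h4 : Nat.card (Ec C) = 4)
    {X : Subgroup P} (hX : Layer C X) (hXM : X ≤ Mz C) (hXc : ∀ x ∈ X, ∀ t : P, ⁅t, x⁆ ∈ Zc C) :
    Nat.card X < 16 * Nat.card (Zc C) := by
  by_contra hbig
  push Not at hbig
  obtain ⟨w, hw, z, hzE, N, -, -, hz1, hzSq, hgen⟩ := s.exists_gen hn
  obtain ⟨x0, hx0, hne0⟩ := s.moves
  set e0 := ⁅x0, α x0⁆ with he0
  have he0E : e0 ∈ Ec C := s.comm_ec hx0 (s.c_map x0 hx0)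
  have he0S : ¬ IsSq C e0 := s.moved_not_isSq h4 hx0 hne0
  have he01 : e0 ≠ 1 := fun h => he0S (h ▸ ⟨1, one_mem _, one_pow 2⟩)
  have hEY : ∀ e ∈ Ec C, IsSq C e ∨ IsSq C (e0 * e) := by
    intro e he
    have hee : e0 * e0 = 1 := by rw [← pow_two, he0E.2]
    rcases klein h4.le he0E hzE he01 hz1 (fun h => he0S (h ▸ hzSq)) he0E.2 he with h | h | h | h <;> rw [h]
    · exact Or.inl ⟨1, one_mem _, one_pow 2⟩
    · exact Or.inr (by rw [hee]; exact ⟨1, one_mem _, one_pow 2⟩)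
    · exact Or.inl hzSq
    · exact Or.inr (by rwa [← mul_assoc, hee, one_mul])
  let Y : Subgroup P :=
    { carrier := {y | y ∈ Zc C ∧ (IsSq C y ∨ IsSq C (e0 * y))}
      one_mem' := ⟨one_mem _, Or.inl ⟨1, one_mem _, one_pow 2⟩⟩
      mul_mem' := fun {a b} ha hb => ⟨mul_mem ha.1 hb.1, by
        rcases ha.2 with h1 | h1 <;> rcases hb.2 with h2 | h2
        · exact Or.inl (isSq_mul h1 h2)
        · refine Or.inr ?_
          have := isSq_mul h1 h2
          rwa [← mul_assoc, zc_comm ha.1.1 he0E.1, mul_assoc] at this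
        · refine Or.inr ?_
          have := isSq_mul h1 h2
          rwa [mul_assoc] at this
        · refine Or.inl ?_
          have := isSq_mul h1 h2
          rwa [mul_assoc, ← mul_assoc a e0 b, zc_comm ha.1.1 he0E.1, mul_assoc, ← mul_assoc e0 e0,
            show e0 * e0 = 1 by rw [← pow_two, he0E.2], one_mul] at this⟩
      inv_mem' := fun {a} ha => ⟨inv_mem ha.1, by
        rcases ha.2 with h1 | h1
        · exact Or.inl (isSq_inv h1)
        · refine Or.inr ?_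
          have := isSq_inv h1
          rwa [mul_inv_rev, inv_eq_of_mul_eq_one_right (show e0 * e0 = 1 by rw [← pow_two, he0E.2]),
            zc_comm (inv_mem ha.1).1 he0E.1] at this⟩ }
  have hEinY : ∀ e ∈ Ec C, e ∈ Y := fun e he => ⟨he.1, hEY e he⟩
  have hsqY : ∀ ζ ∈ Zc C, ζ ^ 2 ∈ Y := fun ζ hζ => ⟨pow_mem hζ 2, Or.inl ⟨ζ, hζ, rfl⟩⟩
  have hYhalf : ∀ u ∈ Zc C, ∀ v ∈ Zc C, u ∉ Y → v ∉ Y → u⁻¹ * v ∈ Y := by
    have hev : ∀ i : ℤ, Even i → w ^ i ∈ Y := fun i ⟨j, hj⟩ => by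
      rw [hj, zpow_add, ← pow_two]; exact hsqY _ (zpow_mem hw j)
    intro u hu v hv huY hvY
    obtain ⟨i, e, he, rfl⟩ := hgen u hu
    obtain ⟨j, f, hf, rfl⟩ := hgen v hv
    have hi : ¬ Even i := fun h => huY (mul_mem (hev i h) (hEinY e he))
    have hj : ¬ Even j := fun h => hvY (mul_mem (hev j h) (hEinY f hf))
    rw [mul_inv_rev, show e⁻¹ * (w ^ i)⁻¹ * (w ^ j * f) = e⁻¹ * w ^ (-i + j) * f by group]
    refine mul_mem (mul_mem (inv_mem (hEinY e he)) (hev _ ?_)) (hEinY f hf)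
    rw [Int.even_add, even_neg]
    exact iff_of_false hi hj
  have hXe : ∀ a ∈ X, ∀ b ∈ X, ⁅a, b⁆ ∈ Ec C := by
    intro a ha b hb
    have hk := hX.comm a ha b hb
    refine ⟨hk, ?_⟩
    rw [pow_two, ← comm_mul_right_central (mem_mz.1 (hXM hb) _ hk).symm, ← pow_two]
    exact commutatorElement_eq_one_iff_mul_comm.2 (mem_mz.1 (hXM ha) _ (hX.sq b hb)).symm
  have hmulsq : ∀ a ∈ X, ∀ b ∈ X, (a * b) ^ 2 = a ^ 2 * b ^ 2 * ⁅b, a⁆ := fun a ha b hb =>
    mul_sq_central (by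
      rintro v (rfl | rfl)
      · exact (mem_mz.1 (hXM ha) _ (hX.comm b hb _ ha)).symm
      · exact (mem_mz.1 (hXM hb) _ (hX.comm _ hb a ha)).symm)
  let S : Subgroup P :=
    { carrier := {x | x ∈ X ∧ x ^ 2 ∈ Y}
      one_mem' := ⟨one_mem _, by rw [one_pow]; exact one_mem _⟩
      mul_mem' := fun {a b} ha hb => ⟨mul_mem ha.1 hb.1, by
        rw [hmulsq a ha.1 b hb.1]
        exact mul_mem (mul_mem ha.2 hb.2) (hEinY _ (hXe b hb.1 a ha.1))⟩
      inv_mem' := fun {a} ha => ⟨inv_mem ha.1, by rw [inv_pow]; exact inv_mem ha.2⟩ }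
  have hS : Nat.card X ≤ 2 * Nat.card S := card_le_two_mul fun a ha b hb haS hbS => by
    refine ⟨mul_mem (inv_mem ha) hb, ?_⟩
    rw [hmulsq _ (inv_mem ha) b hb, inv_pow]
    exact mul_mem (hYhalf _ (hX.sq a ha) _ (hX.sq b hb) (fun h => haS ⟨ha, h⟩) (fun h => hbS ⟨hb, h⟩))
      (hEinY _ (hXe b hb _ (inv_mem ha)))
  have hval : ∀ v ∈ S, v ∉ Zc C → IsSq C (e0 * v ^ 2) := by
    intro v hv hvZ
    refine hv.2.2.resolve_left ?_
    rintro ⟨ζ, hζ, he⟩
    have hvM := hXM hv.1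
    have hvζ : v * ζ⁻¹ ∈ X := mul_mem hv.1 (hX.le (inv_mem hζ))
    have h := s.no_involution h4 (hXM hvζ) (fun t => hXc _ hvζ t) (by
      rw [(show Commute v ζ⁻¹ from (mem_mz.1 hvM _ (inv_mem hζ)).symm).mul_pow, inv_pow, he, mul_inv_cancel])
    exact hvZ (by simpa using mul_mem h hζ)
  have hkey : ∀ a ∈ S, ∀ b ∈ S, a ∉ Zc C → b ∉ Zc C → a * b ∉ Zc C → IsSq C (e0 * ⁅b, a⁆) := by
    intro a ha b hb haZ hbZ habZ
    obtain ⟨p, hp, hp'⟩ := hval a ha haZ
    obtain ⟨q, hq, hq'⟩ := hval b hb hbZ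
    obtain ⟨m, hm, hm'⟩ := hval _ (mul_mem ha hb) habZ
    refine ⟨m * (p * q)⁻¹, mul_mem hm (inv_mem (mul_mem hp hq)), ?_⟩
    rw [(show Commute m (p * q)⁻¹ from zc_comm hm.1 (inv_mem (mul_mem hp hq))).mul_pow, hm', inv_pow,
      (show Commute p q from zc_comm hp.1 hq).mul_pow, hp', hq', hmulsq a ha.1 b hb.1]
    have hc1 := zc_comm (hX.sq a ha.1).1 he0E.1
    have hk := hXe b hb.1 a ha.1
    rw [show e0 * a ^ 2 * (e0 * b ^ 2) = a ^ 2 * b ^ 2 by
        rw [← mul_assoc, mul_assoc e0 (a ^ 2) e0, hc1, ← mul_assoc,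
          show e0 * e0 = 1 by rw [← pow_two, he0E.2], one_mul],
      zc_comm (mul_mem (hX.sq a ha.1) (hX.sq b hb.1)).1 hk.1, ← mul_assoc, mul_inv_cancel_right]
  have hZS : Zc C ≤ S := fun ζ hζ => ⟨hX.le hζ, hsqY ζ hζ⟩
  have hSL : Layer C S := ⟨hZS, fun a ha => hX.sq a ha.1, fun a ha b hb => hX.comm a ha.1 b hb.1⟩
  have hp0 : 0 < Nat.card (Zc C) := Nat.card_pos
  obtain ⟨x, hx, hxZ⟩ := SetLike.exists_of_lt (lt_of_le_of_ne hZS (fun h => by
    have : Nat.card (Zc C) = Nat.card S := by rw [← h]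
    omega))
  obtain ⟨H1, hH1, hc1, hZ1, h1S, -, hxH1⟩ := hSL.step le_rfl hZS hx hxZ
  obtain ⟨y, hy, hyH⟩ := SetLike.exists_of_lt (lt_of_le_of_ne h1S (fun h => by
    have : Nat.card H1 = Nat.card S := by rw [h]
    omega))
  obtain ⟨H2, hH2, hc2, hZ2, h2S, h12, hyH2⟩ := hSL.step hZ1 h1S hy hyH
  obtain ⟨v, hv, hvH⟩ := SetLike.exists_of_lt (lt_of_le_of_ne h2S (fun h => by
    have : Nat.card H2 = Nat.card S := by rw [h]
    omega))
  have hyZ : y ∉ Zc C := fun h => hyH (hZ1 h)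
  have hvZ : v ∉ Zc C := fun h => hvH (hZ2 h)
  have hyxZ : y * x ∉ Zc C := fun h => hyH (by simpa using mul_mem (hZ1 h) (inv_mem hxH1))
  have hvxZ : v * x ∉ Zc C := fun h => hvH (by simpa using mul_mem (hZ2 h) (inv_mem (h12 hxH1)))
  have hyvZ : y * v ∉ Zc C := fun h => hvH (by simpa using mul_mem (inv_mem hyH2) (hZ2 h))
  have hyvxZ : y * v * x ∉ Zc C := fun h => hvH (by
    have := mul_mem (inv_mem hyH2) (mul_mem (hZ2 h) (inv_mem (h12 hxH1)))
    simpa using this)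
  obtain ⟨p, hp, hp'⟩ := hkey y hy x hx hyZ hxZ hyxZ
  obtain ⟨q, hq, hq'⟩ := hkey v hv x hx hvZ hxZ hvxZ
  obtain ⟨m, hm, hm'⟩ := hkey (y * v) (mul_mem hy hv) x hx hyvZ hxZ hyvxZ
  refine he0S ⟨p * q * m⁻¹, mul_mem (mul_mem hp hq) (inv_mem hm), ?_⟩
  rw [(show Commute (p * q) m⁻¹ from zc_comm (mul_mem hp hq).1 (inv_mem hm)).mul_pow,
    (show Commute p q from zc_comm hp.1 hq).mul_pow, inv_pow, hp', hq', hm',
    comm_mul_right_central (mem_mz.1 (hXM hy.1) _ (hX.comm x hx.1 v hv.1)).symm]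
  have hcy := zc_comm (hX.comm x hx.1 y hy.1).1 he0E.1
  generalize ⁅x, y⁆ = a at hcy ⊢
  generalize ⁅x, v⁆ = b
  rw [show e0 * a * (e0 * b) = e0 * (a * e0) * b by group, hcy,
    show e0 * (e0 * a) * b * (e0 * (a * b))⁻¹ = e0 * e0 * e0⁻¹ by group, mul_inv_cancel_right]

end Cfsg.Lib.NormalRankTwo
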