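import Cfsg.Agent.Lib.NormalRankTwo.Setting
import Cfsg.Agent.Lib.MacWilliams.PCentral

/-!
# An automorphism moving the centre of a critical subgroup

Either the 2-group has order 4, 64 or 128, or it is homocyclic, or it is a homocyclic group extended by
an involution inverting its elements of order four.
-/

set_option autoImplicit false
set_option linter.unusedSimpArgs false
set_option linter.style.haveILetI false

namespace Cfsg.Lib.NormalRankTwo

open Subgroup
open scoped commutatorElement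

universe u

variable {P : Type u} [Group P] [Finite P]

/-- A central four-group on which the automorphism has no fixed point. -/
structure Frame (α : MulAut P) (E : Subgroup P) : Prop where
  isP : IsPGroup 2 P
  h8 : NoEight P
  cube : α ^ 3 = 1
  sq : ∀ e ∈ E, e ^ 2 = 1
  central : ∀ e ∈ E, ∀ t : P, t * e = e * t
  card : Nat.card E = 4
  inv : ∀ e ∈ E, α e ∈ E
  fpf : ∀ e ∈ E, α e = e → e = 1

/-- A normal abelian subgroup of exponent four over the frame. -/
structure Core (α : MulAut P) (E A : Subgroup P) : Prop extends Frame α E where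
  normal : A.Normal
  comm : ∀ x ∈ A, ∀ y ∈ A, x * y = y * x
  exp : ∀ x ∈ A, x ^ 4 = 1
  omega : ∀ x ∈ A, x ^ 2 = 1 → x ∈ E
  le : E ≤ A
  ainv : ∀ x ∈ A, α x ∈ A
  proper : ∃ a ∈ A, a ^ 2 ≠ 1

/-- A homocyclic group extended by an involution. -/
structure Twisted (E D : Subgroup P) : Prop where
  index : D.index = 2
  invol : ∃ u, u ∉ D ∧ u ^ 2 = 1
  omega : ∀ x ∈ D, x ^ 2 = 1 → x ∈ E
  le : E ≤ D
  central : ∀ e ∈ E, ∀ t : P, t * e = e * t
  sq : ∀ e ∈ E, e ^ 2 = 1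
  card : Nat.card E = 4
  inverts : ∀ y, y ∉ D → ∀ e ∈ E, ∃ a ∈ D, a ^ 2 = e ∧ y * a * y⁻¹ = a⁻¹
  fixed : ∀ y, y ∉ D → ∀ x ∈ D, x * y = y * x → x ∈ E

section Frame

variable {α : MulAut P} {E : Subgroup P}

theorem Frame.three (h : Frame α E) (x : P) : α (α (α x)) = x := by
  have h' := congrArg (fun β : MulAut P => β x) h.cube
  simpa [pow_succ, MulAut.mul_apply] using h'

theorem Frame.lift (h : Frame α E) (N : Subgroup P) (hN : ∀ x ∈ N, α x ∈ N) {g : P}
    (hg : g⁻¹ * α g ∈ N) : ∃ n ∈ N, α (g * n) = g * n :=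
  exists_fixed_lift h.isP Nat.prime_three (by norm_num) h.cube N hN hg

theorem Frame.ne (h : Frame α E) {e : P} (he : e ∈ E) (he1 : e ≠ 1) :
    α e ≠ 1 ∧ e ≠ α e := by
  refine ⟨fun hh => he1 (α.injective (by rw [hh, map_one])), fun hh => he1 (h.fpf e he hh.symm)⟩

theorem Frame.orbit (h : Frame α E) {e : P} (he : e ∈ E) (he1 : e ≠ 1) :
    α (α e) = e * α e := by
  obtain ⟨h1, h2⟩ := h.ne he he1
  rcases klein h.card.le he (h.inv e he) he1 h1 h2 (h.sq e he) (h.inv _ (h.inv e he))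
    with h3 | h3 | h3 | h3
  · exact absurd (α.injective (by rw [h3, map_one])) h1
  · have h4 : α (e * α e) = e * α e := by rw [map_mul, h3, ← h.central e he]
    have h5 := h.fpf _ (mul_mem he (h.inv e he)) h4
    refine absurd ?_ h2
    have h6 := inv_eq_of_mul_eq_one_right h5
    rwa [inv_eq_of_mul_eq_one_right (show e * e = 1 by rw [← pow_two, h.sq e he])] at h6
  · exact absurd (α.injective h3).symm h2
  · exact h3

theorem Frame.cases (h : Frame α E) {e f : P} (he : e ∈ E) (he1 : e ≠ 1) (hf : f ∈ E) :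
    f = 1 ∨ f = e ∨ f = α e ∨ f = α (α e) := by
  obtain ⟨h1, h2⟩ := h.ne he he1
  rcases klein h.card.le he (h.inv e he) he1 h1 h2 (h.sq e he) hf with h3 | h3 | h3 | h3
  · exact Or.inl h3
  · exact Or.inr (Or.inl h3)
  · exact Or.inr (Or.inr (Or.inl h3))
  · exact Or.inr (Or.inr (Or.inr (h3.trans (h.orbit he he1).symm)))

end Frame

section Core

variable {α : MulAut P} {E A : Subgroup P}

theorem Core.root (h : Core α E A) {a x : P} (ha : a ∈ A) (hx : x ∈ A) (he : x ^ 2 = a ^ 2) :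
    a⁻¹ * x ∈ E := by
  refine h.omega _ (mul_mem (inv_mem ha) hx) ?_
  rw [(show Commute a⁻¹ x from h.comm _ (inv_mem ha) _ hx).mul_pow, he, inv_pow, inv_mul_cancel]

theorem Core.sq_mem (h : Core α E A) {x : P} (hx : x ∈ A) : x ^ 2 ∈ E :=
  h.omega _ (pow_mem hx 2) (by rw [← pow_mul]; exact h.exp x hx)

theorem Core.cover (h : Core α E A) {a x : P} (ha : a ∈ A) (ha2 : a ^ 2 ≠ 1) (hx : x ∈ A) :
    x ∈ E ∨ a⁻¹ * x ∈ E ∨ (α a)⁻¹ * x ∈ E ∨ (α (α a))⁻¹ * x ∈ E := by
  rcases h.cases (h.sq_mem ha) ha2 (h.sq_mem hx) with he | he | he | he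
  · exact Or.inl (h.omega x hx he)
  · exact Or.inr (Or.inl (h.root ha hx he))
  · exact Or.inr (Or.inr (Or.inl (h.root (h.ainv a ha) hx (he.trans (map_pow α a 2)))))
  · refine Or.inr (Or.inr (Or.inr (h.root (h.ainv _ (h.ainv a ha)) hx (he.trans ?_))))
    rw [map_pow, map_pow]

theorem Core.card_eq (h : Core α E A) : Nat.card A = 16 := by
  obtain ⟨a, ha, ha2⟩ := h.proper
  let f : A →* E :=
    { toFun := fun x => ⟨(x : P) ^ 2, h.sq_mem x.2⟩
      map_one' := Subtype.ext (one_pow 2)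
      map_mul' := fun x y => Subtype.ext ((show Commute (x : P) y from h.comm _ x.2 _ y.2).mul_pow 2) }
  have hs : Function.Surjective f := by
    rintro ⟨e, he⟩
    rcases h.cases (h.sq_mem ha) ha2 he with h1 | h1 | h1 | h1
    · exact ⟨1, Subtype.ext (by simpa [f] using h1.symm)⟩
    · exact ⟨⟨a, ha⟩, Subtype.ext h1.symm⟩
    · exact ⟨⟨α a, h.ainv a ha⟩, Subtype.ext ((map_pow α a 2).symm.trans h1.symm)⟩
    · refine ⟨⟨α (α a), h.ainv _ (h.ainv a ha)⟩, Subtype.ext (Eq.trans ?_ h1.symm)⟩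
      show (α (α a)) ^ 2 = _
      rw [map_pow, map_pow]
  have hk : f.ker = E.subgroupOf A := by
    ext x
    rw [MonoidHom.mem_ker, mem_subgroupOf]
    exact ⟨fun hx => h.omega x x.2 (congrArg Subtype.val hx), fun hx => Subtype.ext (h.sq _ hx)⟩
  rw [← Subgroup.card_mul_index f.ker, Subgroup.index_ker, MonoidHom.range_eq_top.2 hs, Subgroup.card_top,
    hk, Nat.card_congr (Subgroup.subgroupOfEquivOfLe h.le).toEquiv, h.card]

theorem Core.maximal (h : Core α E A) {B : Subgroup P} (hB : B.Normal) (hle : A ≤ B)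
    (hc : ∀ x ∈ B, ∀ y ∈ B, x * y = y * x) (h4 : ∀ x ∈ B, x ^ 4 = 1) : B ≤ A := by
  let W : Subgroup P :=
    { carrier := {x | x ∈ B ∧ x ^ 2 = 1}
      one_mem' := ⟨one_mem _, one_pow _⟩
      mul_mem' := fun {a b} ha hb => ⟨mul_mem ha.1 hb.1, by
        rw [(show Commute a b from hc a ha.1 b hb.1).mul_pow, ha.2, hb.2, one_mul]⟩
      inv_mem' := fun {a} ha => ⟨inv_mem ha.1, by rw [inv_pow, ha.2, inv_one]⟩ }
  haveI : W.Normal := ⟨fun x hx t => ⟨hB.conj_mem x hx.1 t, by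
    rw [conj_pow, hx.2, mul_one, mul_inv_cancel]⟩⟩
  have hW4 := h.h8 W inferInstance ⟨⟨fun a b => Subtype.ext (hc a a.2.1 b b.2.1)⟩⟩ (fun a ha => ha.2)
  have hEW : E = W := eq_of_le_of_card_ge (fun e he => ⟨hle (h.le he), h.sq e he⟩) (by rw [h.card]; exact hW4)
  intro b hb
  obtain ⟨a, ha, ha2⟩ := h.proper
  have hbE : b ^ 2 ∈ E := by rw [hEW]; exact ⟨pow_mem hb 2, by rw [← pow_mul]; exact h4 b hb⟩
  have key : ∀ x ∈ A, b ^ 2 = x ^ 2 → b ∈ A := fun x hx he => by
    have h1 : x⁻¹ * b ∈ E := by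
      rw [hEW]
      refine ⟨mul_mem (inv_mem (hle hx)) hb, ?_⟩
      rw [(show Commute x⁻¹ b from hc _ (inv_mem (hle hx)) _ hb).mul_pow, he, inv_pow, inv_mul_cancel]
    have h2 := mul_mem hx (h.le h1)
    rwa [← mul_assoc, mul_inv_cancel, one_mul] at h2
  rcases h.cases (h.sq_mem ha) ha2 hbE with h1 | h1 | h1 | h1
  · exact key 1 (one_mem _) (by rw [h1, one_pow])
  · exact key a ha h1
  · exact key _ (h.ainv a ha) (h1.trans (map_pow α a 2))
  · exact key _ (h.ainv _ (h.ainv a ha)) (h1.trans (by rw [map_pow, map_pow]))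

theorem Core.omega_cent (h : Core α E A) {x : P} (hx : x ∈ centralizer (A : Set P)) (h4 : x ^ 4 = 1) :
    x ∈ A :=
  haveI := h.normal
  MacWilliams.omega_centralizer h.isP A h.comm h.exp (fun _ hB hle hc h4 => h.maximal hB hle hc h4) x hx h4

theorem Core.le_cent (h : Core α E A) : A ≤ centralizer (A : Set P) :=
  fun x hx => mem_centralizer_iff.2 fun y hy => h.comm y hy x hx

theorem Core.cent_inv (h : Core α E A) {x : P} (hx : x ∈ centralizer (A : Set P)) :
    α x ∈ centralizer (A : Set P) := by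
  refine mem_centralizer_iff.2 fun a ha => ?_
  have h1 := congrArg α (mem_centralizer_iff.1 hx _ (h.ainv _ (h.ainv a ha)))
  simpa [h.three] using h1

theorem Core.cent_fpf (h : Core α E A) {x : P} (hx : x ∈ centralizer (A : Set P)) (he : α x = x) :
    x = 1 := by
  by_contra hne
  obtain ⟨k, hk⟩ := h.isP x
  obtain ⟨j, hj, hj1⟩ := exists_pow_involution hk hne
  refine hj1 (h.fpf _ (h.omega _ (h.omega_cent (pow_mem hx j) ?_) hj) (by rw [map_pow, he]))
  rw [show 4 = 2 * 2 from rfl, pow_mul, hj, one_pow]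

theorem Core.cent_invol (h : Core α E A) {x : P} (hx : x ∈ centralizer (A : Set P)) (h2 : x ^ 2 = 1) :
    x ∈ E :=
  h.omega _ (h.omega_cent hx (by rw [show 4 = 2 * 2 from rfl, pow_mul, h2, one_pow])) h2

theorem fpf_three {D : Subgroup P} {α : MulAut P} (hcube : ∀ x, α (α (α x)) = x)
    (hD : ∀ x ∈ D, α x ∈ D) (hfix : ∀ x ∈ D, α x = x → x = 1) :
    ∀ x ∈ D, x * α x = α x * x := by
  let f : D → D := fun y => ⟨(y : P)⁻¹ * α y, mul_mem (inv_mem y.2) (hD y y.2)⟩
  have hf : Function.Injective f := by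
    intro y z hyz
    have h1 : (y : P)⁻¹ * α y = (z : P)⁻¹ * α z := congrArg Subtype.val hyz
    have h2 : α ((z : P) * (y : P)⁻¹) = z * (y : P)⁻¹ := by
      rw [map_mul, map_inv]
      calc α (z : P) * (α (y : P))⁻¹ = z * ((z : P)⁻¹ * α z) * (α (y : P))⁻¹ := by group
        _ = z * ((y : P)⁻¹ * α y) * (α (y : P))⁻¹ := by rw [h1]
        _ = z * (y : P)⁻¹ := by group
    have h3 := hfix _ (mul_mem z.2 (inv_mem y.2)) h2
    exact Subtype.ext (mul_inv_eq_one.1 h3).symm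
  have hs : ∀ x ∈ D, ∃ y : P, x = y⁻¹ * α y := fun x hx => by
    obtain ⟨y, hy⟩ := (hf.bijective_of_finite).2 ⟨x, hx⟩
    exact ⟨y, (congrArg Subtype.val hy).symm⟩
  have h123 : ∀ x ∈ D, x * α x * α (α x) = 1 := by
    intro x hx
    obtain ⟨y, rfl⟩ := hs x hx
    simp only [map_mul, map_inv, hcube]
    group
  have h132 : ∀ x ∈ D, x * α (α x) * α x = 1 := by
    intro x hx
    have hs' : ∃ y : P, x = α y * y⁻¹ := by
      obtain ⟨y, hy⟩ := hs x⁻¹ (inv_mem hx)
      exact ⟨y⁻¹, by rw [map_inv, inv_inv, ← inv_inv x, hy, mul_inv_rev, inv_inv]⟩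
    obtain ⟨y, rfl⟩ := hs'
    simp only [map_mul, map_inv, hcube]
    group
  intro x hx
  have h1 := h123 _ (hD _ (hD x hx))
  have h2 := h132 _ (hD _ (hD x hx))
  simp only [hcube] at h1 h2
  have h3 : α (α x) * (x * α x) = α (α x) * (α x * x) := by
    rw [← mul_assoc, ← mul_assoc, h1, h2]
  exact mul_left_cancel h3

theorem Core.cent_comm (h : Core α E A) :
    ∀ x ∈ centralizer (A : Set P), ∀ y ∈ centralizer (A : Set P), x * y = y * x := by
  haveI : Fact (Nat.Prime 2) := ⟨Nat.prime_two⟩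
  haveI := h.normal
  set D := centralizer (A : Set P) with hD
  haveI : D.Normal := inferInstance
  set N : Subgroup P := closure {z | ∃ x ∈ D, x ^ 2 = z} with hN
  have hsq : ∀ x ∈ D, x ^ 2 ∈ N := fun x hx => subset_closure ⟨x, hx, rfl⟩
  have hNα : ∀ z ∈ N, α z ∈ N := by
    intro z hz
    have h1 : N ≤ N.comap (α : P ≃* P).toMonoidHom := by
      rw [hN, closure_le]
      rintro _ ⟨x, hx, rfl⟩
      exact subset_closure ⟨α x, h.cent_inv hx, (map_pow α x 2).symm⟩
    exact h1 hz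
  haveI hNn : N.Normal := ⟨fun z hz t => by
    have h1 : N ≤ N.comap (MulAut.conj t).toMonoidHom := by
      rw [hN, closure_le]
      rintro _ ⟨x, hx, rfl⟩
      exact subset_closure ⟨t * x * t⁻¹, (inferInstance : D.Normal).conj_mem x hx t, by
        simp [conj_pow]⟩
    exact h1 hz⟩
  have hNle : N.subgroupOf D ≤ frattini D := by
    intro z hz
    have h1 : N ≤ (frattini D).map D.subtype := by
      rw [hN, closure_le]
      rintro _ ⟨x, hx, rfl⟩
      exact ⟨(⟨x, hx⟩ : D) ^ 2, PGroup.pow_mem_frattini (h.isP.to_subgroup D) _, rfl⟩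
    obtain ⟨w, hw, hwz⟩ := h1 hz
    exact Subtype.ext hwz ▸ hw
  have hNsub : N ≤ D := by
    rw [hN, closure_le]
    rintro _ ⟨x, hx, rfl⟩
    exact pow_mem hx 2
  have hidx : N.relIndex D ≤ 4 := by
    refine MacWilliams.relIndex_le h.isP (fun x hx hx4 y hy => ?_) hsq ?_
    · exact mem_centralizer_iff.1 hy x (h.omega_cent hx hx4)
    · rw [← h.card]
      exact Nat.card_le_card_of_injective (fun x : {x : D // x ^ 2 = 1} =>
        (⟨((x : D) : P), h.cent_invol x.1.2 (congrArg Subtype.val x.2)⟩ : E))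
        fun a b hab => Subtype.ext (Subtype.ext (congrArg Subtype.val hab :))
  obtain ⟨a, ha, ha2⟩ := h.proper
  haveI : Nontrivial D := ⟨⟨a, h.le_cent ha⟩, 1, fun e => ha2 (by
    have : a = 1 := congrArg Subtype.val e
    rw [this, one_pow])⟩
  obtain ⟨v, hv, hvN⟩ : ∃ v ∈ D, v ∉ N := by
    by_contra hh
    push Not at hh
    exact PGroup.frattini_ne_top (G := D) (top_unique fun z _ => hNle (hh z z.2))
  obtain ⟨H1, hH1, hc1⟩ := exists_double N (hsq v hv) (fun z hz => hNn.conj_mem z hz v)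
  have hH1le : H1 ≤ D := fun z hz => by
    rcases (hH1 z).1 hz with h1 | h1
    · exact hNsub h1
    · have h2 := mul_mem hv (hNsub h1)
      rwa [← mul_assoc, mul_inv_cancel, one_mul] at h2
  have hNH1 : N ≤ H1 := fun z hz => (hH1 z).2 (Or.inl hz)
  have hαv : α v ∉ H1 := by
    intro hh
    rcases (hH1 _).1 hh with h1 | h1
    · exact hvN (by simpa [h.three] using hNα _ (hNα _ h1))
    · obtain ⟨n, hn, he⟩ := h.lift N hNα h1
      have h2 := h.cent_fpf (mul_mem hv (hNsub hn)) he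
      exact hvN (by rw [eq_inv_of_mul_eq_one_left h2]; exact inv_mem hn)
  obtain ⟨H2, hH2, hc2⟩ := exists_double H1 (hNH1 (hsq _ (h.cent_inv hv))) (fun z hz => by
    rcases (hH1 z).1 hz with h1 | h1
    · exact (hH1 _).2 (Or.inl (hNn.conj_mem z h1 _))
    · refine (hH1 _).2 (Or.inr ?_)
      rw [show v⁻¹ * (α v * z * (α v)⁻¹) = (v⁻¹ * α v * v * (α v)⁻¹) * (α v * (v⁻¹ * z) * (α v)⁻¹)
        by group]
      refine mul_mem ?_ (hNn.conj_mem _ h1 _)
      rw [show v⁻¹ * α v * v * (α v)⁻¹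
        = (v ^ 2)⁻¹ * (v * α v) ^ 2 * ((α v) ^ 2)⁻¹ by simp only [pow_two]; group]
      exact mul_mem (mul_mem (inv_mem (hsq v hv)) (hsq _ (mul_mem hv (h.cent_inv hv))))
        (inv_mem (hsq _ (h.cent_inv hv))))
  have hH2le : H2 ≤ D := fun z hz => by
    rcases (hH2 z).1 hz with h1 | h1
    · exact hH1le h1
    · have h2 := mul_mem (h.cent_inv hv) (hH1le h1)
      rwa [← mul_assoc, mul_inv_cancel, one_mul] at h2
  have hH2eq : H2 = D := by
    refine eq_of_le_of_card_ge hH2le ?_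
    rw [hc2 hαv, hc1 hvN]
    have := Subgroup.card_mul_index (N.subgroupOf D)
    rw [Nat.card_congr (Subgroup.subgroupOfEquivOfLe hNsub).toEquiv] at this
    have h1 : Nat.card N * (N.subgroupOf D).index ≤ Nat.card N * 4 := Nat.mul_le_mul_left _ hidx
    omega
  set K : Subgroup D := closure {⟨v, hv⟩, ⟨α v, h.cent_inv hv⟩} with hK
  have hKtop : K = ⊤ := by
    refine frattini_nongenerating (top_unique fun z _ => ?_)
    have hzH : (z : P) ∈ H2 := by rw [hH2eq]; exact z.2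
    have hN' : ∀ w : D, (w : P) ∈ N → w ∈ K ⊔ frattini D := fun w hw => mem_sup_right (hNle hw)
    have hv' : (⟨v, hv⟩ : D) ∈ K ⊔ frattini D := mem_sup_left (subset_closure (Or.inl rfl))
    have hw' : (⟨α v, h.cent_inv hv⟩ : D) ∈ K ⊔ frattini D := mem_sup_left (subset_closure (Or.inr rfl))
    have hH1' : ∀ w : D, (w : P) ∈ H1 → w ∈ K ⊔ frattini D := fun w hw => by
      rcases (hH1 _).1 hw with h1 | h1
      · exact hN' w h1
      · have h2 := mul_mem hv' (hN' ((⟨v, hv⟩ : D)⁻¹ * w) h1)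
        rwa [← mul_assoc, mul_inv_cancel, one_mul] at h2
    rcases (hH2 _).1 hzH with h1 | h1
    · exact hH1' z h1
    · have h2 := mul_mem hw' (hH1' ((⟨α v, h.cent_inv hv⟩ : D)⁻¹ * z) h1)
      rwa [← mul_assoc, mul_inv_cancel, one_mul] at h2
  have hcm : v * α v = α v * v := fpf_three h.three (fun x hx => h.cent_inv hx) (fun x hx => h.cent_fpf hx) v hv
  have hKc : ∀ x y : D, x * y = y * x := by
    intro x y
    have h1 : ∀ x ∈ ({⟨v, hv⟩, ⟨α v, h.cent_inv hv⟩} : Set D),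
        ∀ y ∈ ({⟨v, hv⟩, ⟨α v, h.cent_inv hv⟩} : Set D), x * y = y * x := by
      rintro x (rfl | rfl) y (rfl | rfl)
      · rfl
      · exact Subtype.ext hcm
      · exact Subtype.ext hcm.symm
      · rfl
    haveI := Subgroup.isMulCommutative_closure h1
    exact congrArg Subtype.val (mul_comm' (⟨x, hKtop ▸ mem_top x⟩ : K) ⟨y, hKtop ▸ mem_top y⟩)
  exact fun x hx y hy => congrArg Subtype.val (hKc ⟨x, hx⟩ ⟨y, hy⟩)

theorem Core.comm_mem (h : Core α E A) (t : P) {x : P} (hx : x ∈ A) : ⁅t, x⁆ ∈ E := by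
  refine h.omega _ ?_ ?_
  · rw [commutatorElement_def]
    exact mul_mem (h.normal.conj_mem x hx t) (inv_mem hx)
  · rw [commutatorElement_def,
      (show Commute (t * x * t⁻¹) x⁻¹ from h.comm _ (h.normal.conj_mem x hx t) _ (inv_mem hx)).mul_pow,
      conj_pow, inv_pow, h.central _ (h.sq_mem hx) t, mul_inv_cancel_right, mul_inv_cancel]

theorem Core.comm_mul (h : Core α E A) (t : P) {x y : P} (hy : y ∈ A) :
    ⁅t, x * y⁆ = ⁅t, x⁆ * ⁅t, y⁆ :=
  comm_mul_right_central (h.central _ (h.comm_mem t hy) x)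

theorem Core.comm_left (h : Core α E A) (s t : P) {x : P} (hx : x ∈ A) :
    ⁅s * t, x⁆ = ⁅t, x⁆ * ⁅s, x⁆ :=
  comm_mul_left_central (h.central _ (h.comm_mem t hx) s)

theorem Core.comm_e (h : Core α E A) (t : P) {e : P} (he : e ∈ E) : ⁅t, e⁆ = 1 :=
  commutatorElement_eq_one_iff_mul_comm.2 (h.central e he t)

theorem Core.comm_congr (h : Core α E A) (t : P) {x y : P} (hxy : y⁻¹ * x ∈ E) :
    ⁅t, x⁆ = ⁅t, y⁆ := by
  have h1 : ⁅t, y * (y⁻¹ * x)⁆ = ⁅t, y⁆ * ⁅t, y⁻¹ * x⁆ := h.comm_mul t (h.le hxy)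
  rwa [mul_inv_cancel_left, h.comm_e t hxy, mul_one] at h1

theorem Core.fpf_a (h : Core α E A) {a : P} (ha : a ∈ A) (ha2 : a ^ 2 ≠ 1) :
    (α (α a))⁻¹ * (a * α a) ∈ E := by
  refine h.root (h.ainv _ (h.ainv a ha)) (mul_mem ha (h.ainv a ha)) ?_
  rw [(show Commute a (α a) from h.comm a ha _ (h.ainv a ha)).mul_pow, ← map_pow, ← map_pow, ← map_pow,
    h.orbit (h.sq_mem ha) ha2]

theorem Core.comm_orbit (h : Core α E A) (t : P) {a : P} (ha : a ∈ A) (ha2 : a ^ 2 ≠ 1) :
    ⁅t, α (α a)⁆ = ⁅t, a⁆ * ⁅t, α a⁆ := by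
  rw [← h.comm_mul t (h.ainv a ha)]
  exact (h.comm_congr t (h.fpf_a ha ha2)).symm

theorem Core.map_comm (_h : Core α E A) (t x : P) : α ⁅t, x⁆ = ⁅α t, α x⁆ :=
  map_commutatorElement _ _ _

/-- The pair of commutators with two generators of the abelian subgroup. -/
def Core.pair (h : Core α E A) {a : P} (ha : a ∈ A) : P →* E × E where
  toFun t := (⟨⁅t, a⁆, h.comm_mem t ha⟩, ⟨⁅t, α a⁆, h.comm_mem t (h.ainv a ha)⟩)
  map_one' := Prod.ext (Subtype.ext (commutatorElement_one_left a))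
    (Subtype.ext (commutatorElement_one_left _))
  map_mul' s t := Prod.ext
    (Subtype.ext ((h.comm_left s t ha).trans (h.central _ (h.comm_mem s ha) _)))
    (Subtype.ext ((h.comm_left s t (h.ainv a ha)).trans (h.central _ (h.comm_mem s (h.ainv a ha)) _)))

theorem Core.pair_ker (h : Core α E A) {a : P} (ha : a ∈ A) (ha2 : a ^ 2 ≠ 1) :
    (h.pair ha).ker = centralizer (A : Set P) := by
  ext t
  rw [MonoidHom.mem_ker, mem_centralizer_iff]
  constructor
  · intro ht x hx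
    have h1 : ⁅t, a⁆ = 1 := congrArg (fun p : E × E => (p.1 : P)) ht
    have h2 : ⁅t, α a⁆ = 1 := congrArg (fun p : E × E => (p.2 : P)) ht
    have h3 : ⁅t, x⁆ = 1 := by
      rcases h.cover ha ha2 hx with hc | hc | hc | hc
      · exact h.comm_e t hc
      · rw [h.comm_congr t hc, h1]
      · rw [h.comm_congr t hc, h2]
      · rw [h.comm_congr t hc, h.comm_orbit t ha ha2, h1, h2, one_mul]
    exact (commutatorElement_eq_one_iff_mul_comm.1 h3).symm
  · intro ht
    exact Prod.ext (Subtype.ext (commutatorElement_eq_one_iff_mul_comm.2 (ht a ha).symm))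
      (Subtype.ext (commutatorElement_eq_one_iff_mul_comm.2 (ht _ (h.ainv a ha)).symm))

theorem Core.pair_ext (h : Core α E A) {a : P} (ha : a ∈ A) (ha2 : a ^ 2 ≠ 1) {s t : P}
    (h1 : ⁅s, a⁆ = ⁅t, a⁆) (h2 : ⁅s, α a⁆ = ⁅t, α a⁆) : s⁻¹ * t ∈ centralizer (A : Set P) := by
  rw [← h.pair_ker ha ha2, MonoidHom.mem_ker, map_mul, map_inv, inv_mul_eq_one]
  exact Prod.ext (Subtype.ext h1) (Subtype.ext h2)

theorem Core.sq_cent (h : Core α E A) (t : P) : t ^ 2 ∈ centralizer (A : Set P) := by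
  obtain ⟨a, ha, ha2⟩ := h.proper
  rw [← h.pair_ker ha ha2, MonoidHom.mem_ker, map_pow]
  exact Prod.ext (Subtype.ext (h.sq _ (h.comm_mem t ha)))
    (Subtype.ext (h.sq _ (h.comm_mem t (h.ainv a ha))))

theorem Core.comm_cent (h : Core α E A) (s t : P) : ⁅s, t⁆ ∈ centralizer (A : Set P) := by
  obtain ⟨a, ha, ha2⟩ := h.proper
  rw [← h.pair_ker ha ha2, MonoidHom.mem_ker, map_commutatorElement, commutatorElement_eq_one_iff_mul_comm]
  exact Prod.ext (Subtype.ext (h.central _ (h.comm_mem t ha) _))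
    (Subtype.ext (h.central _ (h.comm_mem t (h.ainv a ha)) _))

/-- A fixed element outside the centralizer inverts, or has no fixed twist. -/
theorem Core.fixed_cases (h : Core α E A) {w : P} (hw : α w = w) (hwD : w ∉ centralizer (A : Set P)) :
    (∀ x ∈ A, ⁅w, x⁆ = x ^ 2) ∨ ∀ g ∈ A, ⁅w, g⁆ = g ^ 2 → g ∈ E := by
  obtain ⟨a, ha, ha2⟩ := h.proper
  have hk : ⁅w, α a⁆ = α ⁅w, a⁆ := by rw [h.map_comm, hw]
  have hk' : ⁅w, α (α a)⁆ = α (α ⁅w, a⁆) := by rw [h.map_comm, hw, h.map_comm, hw]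
  have hsq : ∀ {x y : P}, x ∈ A → y ∈ A → x⁻¹ * y ∈ E → y ^ 2 = x ^ 2 := by
    intro x y hx hy hxy
    rw [show y = x * (x⁻¹ * y) by group,
      (show Commute x (x⁻¹ * y) from h.comm x hx _ (h.le hxy)).mul_pow, h.sq _ hxy, mul_one]
  by_cases hka : ⁅w, a⁆ = a ^ 2
  · refine Or.inl fun x hx => ?_
    rcases h.cover ha ha2 hx with hc | hc | hc | hc
    · rw [h.comm_e w hc, h.sq x hc]
    · rw [h.comm_congr w hc, hka, hsq ha hx hc]
    · rw [h.comm_congr w hc, hk, hka, map_pow, hsq (h.ainv a ha) hx hc]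
    · rw [h.comm_congr w hc, hk', hka, map_pow, map_pow, hsq (h.ainv _ (h.ainv a ha)) hx hc]
  · refine Or.inr fun g hg hgg => ?_
    rcases h.cover ha ha2 hg with hc | hc | hc | hc
    · exact hc
    · rw [h.comm_congr w hc, hsq ha hg hc] at hgg
      exact absurd hgg hka
    · rw [h.comm_congr w hc, hk, hsq (h.ainv a ha) hg hc, ← map_pow] at hgg
      exact absurd (α.injective hgg) hka
    · rw [h.comm_congr w hc, hk', hsq (h.ainv _ (h.ainv a ha)) hg hc, ← map_pow, ← map_pow] at hgg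
      exact absurd (α.injective (α.injective hgg)) hka

end Core

end Cfsg.Lib.NormalRankTwo
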