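import Cfsg.Agent.Lib.NormalRankTwo.TypeOne

/-!
# The outcome when the automorphism moves the centre of the critical subgroup
-/

set_option autoImplicit false
set_option linter.unusedSimpArgs false
set_option linter.style.haveILetI false

namespace Cfsg.Lib.NormalRankTwo

open Subgroup
open scoped commutatorElement

universe u

variable {P : Type u} [Group P] [Finite P]

/-- An abelian group of rank two and exponent at least four. -/
def Homocyclic (P : Type u) [Group P] : Prop :=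
  (∀ x y : P, x * y = y * x) ∧ 16 ∣ Nat.card P ∧ Nat.card {x : P // x ^ 2 = 1} ≤ 4 ∧ ∃ u : P, u ^ 2 ≠ 1

variable {α : MulAut P} {E A : Subgroup P}

theorem Core.homocyclic (h : Core α E A) (htop : centralizer (A : Set P) = ⊤) : Homocyclic P := by
  refine ⟨fun x y => h.cent_comm x (htop ▸ mem_top x) y (htop ▸ mem_top y),
    h.card_eq ▸ Subgroup.card_subgroup_dvd_card A, ?_, ?_⟩
  · rw [← h.card]
    exact Nat.card_le_card_of_injective
      (fun x : {x : P // x ^ 2 = 1} => (⟨x, h.cent_invol (htop ▸ mem_top _) x.2⟩ : E))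
      fun x y hxy => Subtype.ext (congrArg Subtype.val hxy :)
  · obtain ⟨a, -, ha2⟩ := h.proper
    exact ⟨a, ha2⟩

theorem Core.index_data (h : Core α E A) {a : P} (ha : a ∈ A) (ha2 : a ^ 2 ≠ 1) :
    (centralizer (A : Set P)).index ≤ 16 ∧ (∃ j, (centralizer (A : Set P)).index = 2 ^ j) ∧
      ((centralizer (A : Set P)).index = 16 → Function.Surjective (h.pair ha)) := by
  haveI : Fact (Nat.Prime 2) := ⟨Nat.prime_two⟩
  haveI := h.normal
  have hEE : Nat.card (E × E) = 16 := by rw [Nat.card_prod, h.card]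
  have hi : (centralizer (A : Set P)).index = Nat.card (h.pair ha).range := by
    rw [← h.pair_ker ha ha2, Subgroup.index_ker]
  refine ⟨?_, h.isP.index _, fun h16 => ?_⟩
  · rw [hi, ← hEE]
    exact Finite.card_subtype_le _
  · rw [← MonoidHom.range_eq_top]
    exact Subgroup.eq_top_of_card_eq _ (by rw [hEE, ← hi, h16])

/-- A fixed element without fixed twist yields a normal elementary abelian subgroup of order eight. -/
theorem Core.fixed_inverts (h : Core α E A) (hDA : centralizer (A : Set P) = A) {w : P} (hw : α w = w)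
    (hwA : w ∉ A) : ∀ x ∈ A, ⁅w, x⁆ = x ^ 2 := by
  refine (h.fixed_cases hw (by rw [hDA]; exact hwA)).resolve_right fun htw => ?_
  haveI : E.Normal := ⟨fun e he t => by rw [h.central e he t, mul_inv_cancel_right]; exact he⟩
  have hw2 : w ^ 2 = 1 := h.cent_fpf (h.sq_cent w) (by rw [map_pow, hw])
  refine hwA (h.le (not_extend h.h8 E (fun a ha b _ => (h.central a ha b).symm) h.sq h.card.ge hw2
    (fun e he => h.central e he w) fun y => ?_))
  rw [← commutatorElement_def]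
  have hg : ⁅y, w⁆ ∈ A := by rw [← hDA]; exact h.comm_cent y w
  refine htw _ hg ?_
  have hww : w * w = 1 := by rw [← pow_two, hw2]
  have hgw : ⁅y, w⁆ * w = y * w * y⁻¹ := by rw [commutatorElement_def]; group
  have h1 : (⁅y, w⁆ * w) * (⁅y, w⁆ * w) = 1 := by
    rw [hgw, show y * w * y⁻¹ * (y * w * y⁻¹) = y * (w * w) * y⁻¹ by group, hww, mul_one, mul_inv_cancel]
  have hwi : w⁻¹ = w := inv_eq_of_mul_eq_one_right hww
  have h2 : w * ⁅y, w⁆ * w = ⁅y, w⁆⁻¹ := by
    rw [eq_comm, inv_eq_iff_mul_eq_one, ← h1]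
    group
  have h3 : ⁅y, w⁆ ^ 4 = 1 := h.exp _ hg
  rw [commutatorElement_def w ⁅y, w⁆, hwi, h2, eq_comm, ← mul_inv_eq_one,
    show ⁅y, w⁆ ^ 2 * (⁅y, w⁆⁻¹ * ⁅y, w⁆⁻¹)⁻¹ = ⁅y, w⁆ ^ 4 by generalize ⁅y, w⁆ = g; group]
  exact h3

theorem Core.small (h : Core α E A) (hDA : centralizer (A : Set P) = A) :
    Nat.card P = 64 ∨ Nat.card P = 128 ∨ Homocyclic P := by
  haveI := h.normal
  haveI : E.Normal := ⟨fun e he t => by rw [h.central e he t, mul_inv_cancel_right]; exact he⟩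
  obtain ⟨a, ha, ha2⟩ := h.proper
  obtain ⟨hle, ⟨j, hj⟩, h16⟩ := h.index_data ha ha2
  rw [hDA] at hle hj h16
  rw [hj] at hle
  have hcard : Nat.card P = 16 * 2 ^ j := by rw [← Subgroup.card_mul_index A, h.card_eq, hj]
  have hj4 : j ≤ 4 := by
    by_contra hh
    have : 2 ^ 5 ≤ 2 ^ j := Nat.pow_le_pow_right two_pos (by omega)
    omega
  interval_cases j
  · refine Or.inr (Or.inr (h.homocyclic ?_))
    rw [hDA]
    exact Subgroup.index_eq_one.1 (by rw [hj, pow_zero])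
  · exfalso
    have hidx : A.index = 2 := by rw [hj, pow_one]
    obtain ⟨t, htA⟩ : ∃ t, t ∉ A := by
      by_contra hh
      push Not at hh
      rw [(eq_top_iff' A).2 hh, index_top] at hidx
      omega
    have htA' : α t ∉ A := fun hh => htA (by simpa [h.three] using h.ainv _ (h.ainv _ hh))
    obtain ⟨n, hn, hw⟩ := h.lift A h.ainv (g := t)
      ((mul_mem_iff_of_index_two hidx).2 ⟨fun hh => absurd (inv_mem_iff.1 hh) htA, fun hh => absurd hh htA'⟩)
    set w := t * n with hwdef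
    have hwA : w ∉ A := fun hh => htA (by
      have := mul_mem hh (inv_mem hn)
      rwa [hwdef, mul_inv_cancel_right] at this)
    have hinv := h.fixed_inverts hDA hw hwA
    have hw2 : w ^ 2 = 1 := h.cent_fpf (h.sq_cent w) (by rw [map_pow, hw])
    refine hwA (h.le (not_extend h.h8 E (fun a ha b _ => (h.central a ha b).symm) h.sq h.card.ge hw2
      (fun e he => h.central e he w) fun y => ?_))
    rw [← commutatorElement_def]
    have hA : ∀ x ∈ A, ⁅x, w⁆ ∈ E := fun x hx => by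
      rw [← commutatorElement_inv, hinv x hx]
      exact inv_mem (h.sq_mem hx)
    by_cases hy : y ∈ A
    · exact hA y hy
    · have hwy : w⁻¹ * y ∈ A := (mul_mem_iff_of_index_two hidx).2
        ⟨fun hh => absurd (inv_mem_iff.1 hh) hwA, fun hh => absurd hh hy⟩
      have e : ⁅y, w⁆ = w * ⁅w⁻¹ * y, w⁆ * w⁻¹ := by simp only [commutatorElement_def]; group
      rw [e]
      exact (inferInstance : E.Normal).conj_mem _ (hA _ hwy) w
  · exact Or.inl (by omega)
  · exact Or.inr (Or.inl (by omega))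
  · exfalso
    obtain ⟨t, ht⟩ := h16 (by rw [hj]; norm_num)
      (⟨α (a ^ 2), h.inv _ (h.sq_mem ha)⟩, ⟨α (α (a ^ 2)), h.inv _ (h.inv _ (h.sq_mem ha))⟩)
    have h1 : ⁅t, a⁆ = α (a ^ 2) := congrArg (fun p : E × E => (p.1 : P)) ht
    have h2 : ⁅t, α a⁆ = α (α (a ^ 2)) := congrArg (fun p : E × E => (p.2 : P)) ht
    have hk : ⁅t, α (α a)⁆ = a ^ 2 := by
      rw [h.comm_orbit t ha ha2, h1, h2,
        ← h.orbit (h.inv _ (h.sq_mem ha)) (h.ne (h.sq_mem ha) ha2).1, h.three]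
    have h3 : ⁅α t, a⁆ = ⁅t, a⁆ := by
      rw [show ⁅α t, a⁆ = α ⁅t, α (α a)⁆ by rw [h.map_comm, h.three], hk, h1]
    have h4 : ⁅α t, α a⁆ = ⁅t, α a⁆ := by
      rw [← h.map_comm, h1, h2]
    have hmem := h.pair_ext ha ha2 h3.symm h4.symm
    rw [hDA] at hmem
    obtain ⟨n, hn, hw⟩ := h.lift A h.ainv hmem
    have hwn : ∀ x ∈ A, ⁅t * n, x⁆ = ⁅t, x⁆ := fun x hx => by
      rw [h.comm_left t n hx, commutatorElement_eq_one_iff_mul_comm.2 (h.comm n hn x hx), one_mul]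
    have hwA : t * n ∉ A := fun hh => (h.ne (h.sq_mem ha) ha2).1 (by
      rw [← h1, ← hwn a ha, commutatorElement_eq_one_iff_mul_comm.2 (h.comm _ hh a ha)])
    have := h.fixed_inverts hDA hw hwA a ha
    rw [hwn a ha, h1] at this
    exact (h.ne (h.sq_mem ha) ha2).2 this.symm

theorem Core.no_kernel (h : Core α E A)
    (hidem : ∀ (t : P), ∀ x ∈ A, ∃ g ∈ A, g ^ 2 = ⁅t, x⁆ ∧ ⁅t, g⁆ = g ^ 2)
    {t b k : P} (hb : b ∈ A) (hb2 : b ^ 2 ≠ 1) (htb : ⁅t, b⁆ = b ^ 2) (hk : k ∈ A) (hk2 : k ^ 2 ≠ 1)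
    (htk : ⁅t, k⁆ = 1) : False := by
  have hb1 := h.ainv b hb
  have hb12 : (α b) ^ 2 ≠ 1 := by rw [← map_pow]; exact (h.ne (h.sq_mem hb) hb2).1
  have hb22 : (α (α b)) ^ 2 ≠ 1 := by
    rw [← map_pow, ← map_pow]; exact (h.ne (h.inv _ (h.sq_mem hb)) (h.ne (h.sq_mem hb) hb2).1).1
  have horb : b ^ 2 * α (b ^ 2) = α (α (b ^ 2)) := (h.orbit (h.sq_mem hb) hb2).symm
  have hbb : b ^ 2 * b ^ 2 = 1 := by rw [← pow_two]; exact h.sq _ (h.sq_mem hb)
  have haa : α (b ^ 2) * α (b ^ 2) = 1 := by rw [← map_mul, hbb, map_one]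
  have hne2 : α (α (b ^ 2)) ≠ b ^ 2 := fun hh => (h.ne (h.sq_mem hb) hb2).1 (by
    rw [← horb, mul_eq_left] at hh
    exact hh)
  -- the product with the translated element
  have hs0 : ⁅t * α t, α b⁆ = α (b ^ 2) * ⁅t, α b⁆ := by
    rw [h.comm_left t (α t) hb1, ← h.map_comm, htb]
  have hs1 : ⁅t * α t, b⁆ = α ⁅t, α (α b)⁆ * b ^ 2 := by
    rw [h.comm_left t (α t) hb, htb]
    congr 1
    rw [h.map_comm, h.three]
  have hcls : ∀ g ∈ A, g ^ 2 = α (α (b ^ 2)) → ∀ s : P, ⁅s, g⁆ = ⁅s, b⁆ * ⁅s, α b⁆ := by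
    intro g hg hg2 s
    rw [← h.comm_orbit s hb hb2]
    exact h.comm_congr s (h.root (h.ainv _ hb1) hg (by rw [hg2, map_pow, map_pow]))
  rcases h.cover hb hb2 hk with hc | hc | hc | hc
  · exact hk2 (h.sq k hc)
  · exact hb2 (by rw [← htb, ← h.comm_congr t hc, htk])
  · have hz : ⁅t, α b⁆ = 1 := by rw [← h.comm_congr t hc, htk]
    have hz2 : ⁅t, α (α b)⁆ = b ^ 2 := by rw [h.comm_orbit t hb hb2, htb, hz, mul_one]
    rw [hz, mul_one] at hs0
    rw [hz2, h.central _ (h.sq_mem hb) (α (b ^ 2)), horb] at hs1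
    obtain ⟨g, hg, hgsq, hgg⟩ := hidem (t * α t) b hb
    rw [hs1] at hgsq
    rw [hcls g hg hgsq, hs1, hs0, hgsq] at hgg
    have he : α (α (b ^ 2)) * α (b ^ 2) = b ^ 2 := by
      rw [← horb, mul_assoc, haa, mul_one]
    rw [he] at hgg
    exact hne2 hgg.symm
  · have hz2 : ⁅t, α (α b)⁆ = 1 := by rw [← h.comm_congr t hc, htk]
    have hz : ⁅t, α b⁆ = b ^ 2 := by
      have h1 := h.comm_orbit t hb hb2
      rw [hz2, htb] at h1
      calc ⁅t, α b⁆ = b ^ 2 * (b ^ 2 * ⁅t, α b⁆) := by rw [← mul_assoc, hbb, one_mul]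
        _ = b ^ 2 := by rw [← h1, mul_one]
    rw [hz, ← h.central _ (h.inv _ (h.sq_mem hb)) (b ^ 2), horb] at hs0
    rw [hz2, map_one, one_mul] at hs1
    obtain ⟨g, hg, hgsq, hgg⟩ := hidem (t * α t) (α b) hb1
    rw [hs0] at hgsq
    rw [hcls g hg hgsq, hs1, hs0, hgsq, ← horb, ← mul_assoc, hbb, one_mul, eq_comm, mul_eq_right] at hgg
    exact hb2 hgg

theorem Core.large (h : Core α E A) (hDA : centralizer (A : Set P) ≠ A) :
    Homocyclic P ∨ Twisted E (centralizer (A : Set P)) := by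
  haveI := h.normal
  set D := centralizer (A : Set P) with hDdef
  haveI hDn : D.Normal := inferInstance
  have hDc := h.cent_comm
  obtain ⟨x, hxD, hxA⟩ := SetLike.not_le_iff_exists.1
    (fun hh : D ≤ A => hDA (le_antisymm hh h.le_cent))
  have hx4 : x ^ 4 ≠ 1 := fun h4 => hxA (h.omega_cent hxD h4)
  obtain ⟨k, hk⟩ := h.isP (x ^ 2)
  obtain ⟨j, hj4, hj2⟩ := exists_pow_four hk (by rw [← pow_mul]; exact hx4)
  set δ := x ^ j with hδ
  have hδD : δ ∈ D := pow_mem hxD j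
  have hδ2 : δ ^ 2 = (x ^ 2) ^ j := by rw [hδ, ← pow_mul, ← pow_mul, mul_comm]
  have hδA : δ ^ 2 ∈ A := h.omega_cent (pow_mem hδD 2) (by rw [hδ2]; exact hj4)
  have hδ4 : (δ ^ 2) ^ 2 ≠ 1 := by rw [hδ2]; exact hj2
  have hroot : ∀ y ∈ A, ∃ d ∈ D, d ^ 2 ∈ A ∧ (d ^ 2)⁻¹ * y ∈ E := by
    intro y hy
    rcases h.cover hδA hδ4 hy with hc | hc | hc | hc
    · exact ⟨1, one_mem _, by simp, by simpa using hc⟩
    · exact ⟨δ, hδD, hδA, hc⟩
    · exact ⟨α δ, h.cent_inv hδD, by rw [← map_pow]; exact h.ainv _ hδA, by rwa [← map_pow]⟩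
    · refine ⟨α (α δ), h.cent_inv (h.cent_inv hδD), ?_, ?_⟩ <;> rw [← map_pow, ← map_pow]
      · exact h.ainv _ (h.ainv _ hδA)
      · exact hc
  have hidem : ∀ (t : P), ∀ y ∈ A, ∃ g ∈ A, g ^ 2 = ⁅t, y⁆ ∧ ⁅t, g⁆ = g ^ 2 := by
    intro t y hy
    obtain ⟨d, hd, hdA, hdy⟩ := hroot y hy
    have hg : ⁅t, d⁆ ∈ D := by
      rw [commutatorElement_def]
      exact mul_mem (hDn.conj_mem d hd t) (inv_mem hd)
    have hg2 : ⁅t, d⁆ ^ 2 = ⁅t, y⁆ := by
      rw [h.comm_congr t hdy, pow_two, pow_two, comm_mul_right, hDc d hd _ hg, mul_inv_cancel_right]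
    have hg4 : ⁅t, d⁆ ^ 4 = 1 := by
      rw [show 4 = 2 * 2 from rfl, pow_mul, hg2, h.sq _ (h.comm_mem t hy)]
    have hgA := h.omega_cent hg hg4
    refine ⟨_, hgA, hg2, ?_⟩
    have ht2 : t ^ 2 * d = d * t ^ 2 := hDc _ (h.sq_cent t) d hd
    have hconj : t * ⁅t, d⁆ * t⁻¹ = (t * d * t⁻¹ * d⁻¹)⁻¹ := by
      calc t * ⁅t, d⁆ * t⁻¹ = t ^ 2 * d * (t ^ 2)⁻¹ * (t * d * t⁻¹)⁻¹ := by
            rw [commutatorElement_def, pow_two]; group
        _ = d * (t * d * t⁻¹)⁻¹ := by rw [ht2, mul_inv_cancel_right]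
        _ = (t * d * t⁻¹ * d⁻¹)⁻¹ := by group
    rw [← commutatorElement_def] at hconj
    rw [commutatorElement_def t ⁅t, d⁆, hconj, ← mul_inv_eq_one,
      show ⁅t, d⁆⁻¹ * ⁅t, d⁆⁻¹ * (⁅t, d⁆ ^ 2)⁻¹ = (⁅t, d⁆ ^ 4)⁻¹ by generalize ⁅t, d⁆ = g; group, hg4, inv_one]
  have hinv : ∀ t, t ∉ D → ∀ y ∈ A, ⁅t, y⁆ = y ^ 2 := by
    intro t ht
    obtain ⟨x0, hx0, hx0'⟩ : ∃ x0 ∈ A, ⁅t, x0⁆ ≠ 1 := by
      by_contra hh
      push Not at hh
      exact ht (mem_centralizer_iff.2 fun y hy => (commutatorElement_eq_one_iff_mul_comm.1 (hh y hy)).symm)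
    obtain ⟨b, hb, hb2, hbb⟩ := hidem t x0 hx0
    have hb1 : b ^ 2 ≠ 1 := by rw [hb2]; exact hx0'
    have hnk : ∀ y ∈ A, ⁅t, y⁆ = 1 → y ∈ E := fun y hy hy1 => h.omega y hy (by
      by_contra hy2
      exact h.no_kernel hidem hb hb1 hbb hy hy2 hy1)
    intro y hy
    by_cases hyE : y ∈ E
    · rw [h.comm_e t hyE, h.sq y hyE]
    · obtain ⟨g, hg, hg2, hgg⟩ := hidem t y hy
      have hmem : g⁻¹ * y ∈ E := hnk _ (mul_mem (inv_mem hg) hy) (by
        have h1 := h.comm_mul t (mul_mem (inv_mem hg) hy) (x := g)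
        rw [mul_inv_cancel_left, hgg, hg2] at h1
        exact mul_eq_left.1 h1.symm)
      rw [show y = g * (g⁻¹ * y) by group,
        (show Commute g (g⁻¹ * y) from h.comm g hg _ (h.le hmem)).mul_pow, h.sq _ hmem, mul_one, ← hgg]
      exact h.comm_congr t (by rw [inv_mul_cancel_left]; exact hmem)
  by_cases htop : D = ⊤
  · exact Or.inl (h.homocyclic htop)
  refine Or.inr ?_
  obtain ⟨a, ha, ha2⟩ := h.proper
  have hsame : ∀ s t, s ∉ D → t ∉ D → s⁻¹ * t ∈ D := fun s t hs ht =>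
    h.pair_ext ha ha2 (by rw [hinv s hs a ha, hinv t ht a ha])
      (by rw [hinv s hs _ (h.ainv a ha), hinv t ht _ (h.ainv a ha)])
  obtain ⟨t, -, ht⟩ := SetLike.exists_of_lt (lt_top_iff_ne_top.2 htop)
  have hidx : D.index = 2 := by
    rw [Subgroup.index_eq_two_iff]
    refine ⟨t, fun b => ?_⟩
    by_cases hb : b ∈ D
    · exact Or.inr ⟨hb, fun hh => ht (by simpa using mul_mem (inv_mem hb) hh)⟩
    · refine Or.inl ⟨?_, hb⟩
      have := hsame b⁻¹ t (fun hh => hb (inv_mem_iff.1 hh)) ht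
      rwa [inv_inv] at this
  have hαt : α t ∉ D := fun hh => ht (by simpa [h.three] using h.cent_inv (h.cent_inv hh))
  obtain ⟨n, hn, hw⟩ := h.lift D (fun x hx => h.cent_inv hx) (hsame t (α t) ht hαt)
  refine ⟨hidx, ⟨t * n, fun hh => ht ?_, h.cent_fpf (h.sq_cent _) (by rw [map_pow, hw])⟩,
    fun y hy hy2 => h.cent_invol hy hy2, h.le.trans h.le_cent, h.central, h.sq, h.card, ?_, ?_⟩
  · simpa using mul_mem hh (inv_mem hn)
  · intro y hy e he
    have hy' : ∀ b ∈ A, y * b * y⁻¹ = b⁻¹ := fun b hb => by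
      have h1 : y * b * y⁻¹ * b⁻¹ = b ^ 2 := by rw [← commutatorElement_def]; exact hinv y hy b hb
      rw [mul_inv_eq_iff_eq_mul.1 h1, ← pow_succ, eq_inv_iff_mul_eq_one, ← pow_succ]
      exact h.exp b hb
    rcases h.cases (h.sq_mem ha) ha2 he with h1 | h1 | h1 | h1
    · exact ⟨1, one_mem _, by rw [h1, one_pow], by simp⟩
    · exact ⟨a, h.le_cent ha, h1.symm, hy' a ha⟩
    · exact ⟨α a, h.le_cent (h.ainv a ha), by rw [h1, map_pow], hy' _ (h.ainv a ha)⟩
    · exact ⟨α (α a), h.le_cent (h.ainv _ (h.ainv a ha)), by rw [h1, map_pow, map_pow],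
        hy' _ (h.ainv _ (h.ainv a ha))⟩
  · intro y hy z hz hzy
    by_contra hzE
    have hz2 : z ^ 2 ≠ 1 := fun hh => hzE (h.cent_invol hz hh)
    obtain ⟨k, hk⟩ := h.isP z
    obtain ⟨i, hi4, hi2⟩ := exists_pow_four hk hz2
    have h1 := hinv y hy _ (h.omega_cent (pow_mem hz i) hi4)
    rw [commutatorElement_eq_one_iff_mul_comm.2 ((show Commute y z from hzy.symm).pow_right i).eq] at h1
    exact hi2 h1.symm

theorem Core.conclude (h : Core α E A) :
    Nat.card P = 64 ∨ Nat.card P = 128 ∨ Homocyclic P ∨ ∃ E D : Subgroup P, Twisted E D := by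
  by_cases hDA : centralizer (A : Set P) = A
  · rcases h.small hDA with h1 | h1 | h1
    exacts [Or.inl h1, Or.inr (Or.inl h1), Or.inr (Or.inr (Or.inl h1))]
  · rcases h.large hDA with h1 | h1
    exacts [Or.inr (Or.inr (Or.inl h1)), Or.inr (Or.inr (Or.inr ⟨_, _, h1⟩))]

/-- The outcome of the first case. -/
theorem Setting.typeOne {r : ℕ} {C : Subgroup P} (s : Setting α r C)
    (hmove : ∃ z ∈ Zc C, α z ≠ z) :
    Nat.card P = 4 ∨ Nat.card P = 64 ∨ Nat.card P = 128 ∨ Homocyclic P ∨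
      ∃ E D : Subgroup P, Twisted E D := by
  haveI : Fact (Nat.Prime 2) := ⟨Nat.prime_two⟩
  obtain ⟨e, he, hfix⟩ : ∃ e ∈ Ec C, α e ≠ e := by
    by_contra hh
    push Not at hh
    obtain ⟨z, hz, hz'⟩ := hmove
    exact hz' (fixed_of_omega s.isP s.pr s.ne2 s.pow (Zc C) (fun x hx => s.zc_char α hx)
      (fun x hx y hy => zc_comm hx.1 hy) (fun f hf hf2 => hh f ⟨hf, hf2⟩) z hz)
  set E := Ec C with hE
  have he1 : e ≠ 1 := fun hh => hfix (by rw [hh, map_one])
  have hαe : α e ∈ E := s.ec_map he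
  have hαe1 : α e ≠ 1 := fun hh => he1 (α.injective (by rw [hh, map_one]))
  have hcard : Nat.card E = 4 := by
    have h3 : ({1, e, α e} : Set P).ncard = 3 := by
      rw [Set.ncard_insert_of_notMem (by simp [Ne.symm he1, Ne.symm hαe1]),
        Set.ncard_insert_of_notMem (by simp [Ne.symm hfix]), Set.ncard_singleton]
    have hsub : ({1, e, α e} : Set P) ⊆ (E : Set P) := by
      intro x hx
      rcases hx with rfl | rfl | rfl
      exacts [one_mem _, he, hαe]
    have h1 := Set.ncard_le_ncard hsub (Set.toFinite _)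
    rw [h3, ← Nat.card_coe_set_eq] at h1
    have h2 : Nat.card E ≤ 4 := s.ec_card
    obtain ⟨m, hm⟩ := IsPGroup.iff_card.1 (s.isP.to_subgroup E)
    have h1' : 3 ≤ Nat.card E := h1
    rw [hm] at h1' h2 ⊢
    rcases Nat.lt_or_ge m 3 with h4 | h4
    · interval_cases m <;> simp_all
    · have : 2 ^ 3 ≤ 2 ^ m := Nat.pow_le_pow_right two_pos h4
      omega
  have hsq : ∀ f ∈ E, f ^ 2 = 1 := fun f hf => hf.2
  have hfpf : ∀ f ∈ E, α f = f → f = 1 := by
    intro f hf hff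
    by_contra hf1
    have hef : e ≠ f := fun hh => hfix (by rw [hh, hff])
    rcases klein hcard.le hf he hf1 he1 (Ne.symm hef) (hsq f hf) hαe with h1 | h1 | h1 | h1
    · exact hαe1 h1
    · exact hef (α.injective (by rw [h1, hff]))
    · exact hfix h1
    · refine hfix (fixed_of_trivial s.isP s.pr s.ne2 s.pow (zpowers f) (fun x hx => ?_) ?_)
      · obtain ⟨i, rfl⟩ := mem_zpowers_iff.1 hx
        rw [map_zpow, hff]
      · rw [h1, ← s.ec_comm e he f hf, inv_mul_cancel_left]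
        exact mem_zpowers f
  have horb : α (α e) = e * α e := by
    rcases klein hcard.le he hαe he1 hαe1 (Ne.symm hfix) (hsq e he) (s.ec_map hαe) with h1 | h1 | h1 | h1
    · exact absurd (α.injective (by rw [h1, map_one])) hαe1
    · have h4 := hfpf _ (mul_mem he hαe) (by rw [map_mul, h1, s.ec_comm _ hαe e he])
      refine absurd ?_ hfix
      rw [← inv_eq_of_mul_eq_one_right h4]
      exact inv_eq_of_mul_eq_one_right (show e * e = 1 by rw [← pow_two, hsq e he])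
    · exact absurd (α.injective h1) hfix
    · exact h1
  have h3e : α (α (α e)) = e := by
    rw [horb, map_mul, horb, ← mul_assoc, ← s.ec_comm e he _ hαe, mul_assoc,
      show α e * α e = 1 by rw [← pow_two, hsq _ hαe], mul_one]
  have hgen : ∀ f ∈ E, ∀ β : MulAut P, β e = e → β (α e) = α e → β f = f := by
    intro f hf β hb1 hb2
    rcases klein hcard.le he hαe he1 hαe1 (Ne.symm hfix) (hsq e he) hf with h1 | h1 | h1 | h1 <;>
      rw [h1] <;> simp [hb1, hb2]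
  have hr3 : r = 3 := by
    by_contra hr3
    have hq : ∀ q : ℕ, (α ^ (3 * q)) e = e := by
      intro q
      induction q with
      | zero => simp
      | succ q ih =>
        rw [Nat.mul_succ, pow_add, MulAut.mul_apply]
        simp only [pow_succ, pow_zero, one_mul, MulAut.mul_apply, h3e]
        exact ih
    have hmod : r % 3 = 1 ∨ r % 3 = 2 := by
      have : ¬ 3 ∣ r := fun hd => hr3 ((Nat.prime_dvd_prime_iff_eq Nat.prime_three s.pr).1 hd).symm
      omega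
    have hr : (α ^ r) e = e := by rw [s.pow, MulAut.one_apply]
    rw [← Nat.mod_add_div r 3, add_comm, pow_add, MulAut.mul_apply] at hr
    have hr' : (α ^ (r % 3)) e = e := (α ^ (3 * (r / 3))).injective (hr.trans (hq _).symm)
    rcases hmod with h1 | h1 <;> rw [h1] at hr'
    · exact hfix (by simpa using hr')
    · rw [pow_two, MulAut.mul_apply, horb, mul_eq_left] at hr'
      exact hαe1 hr'
  subst hr3
  haveI : E.Normal := s.ec_normal
  have hcentral : ∀ f ∈ E, ∀ t : P, t * f = f * t := by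
    obtain ⟨f0, hf0, hf0c, hf01⟩ : ∃ f0 ∈ E, f0 ∈ center P ∧ f0 ≠ 1 := by
      have hne : E ⊓ center P ≠ ⊥ := PGroup.inf_center_ne_bot s.isP (fun hh => he1 (by
        rw [hh, mem_bot] at he
        exact he))
      obtain ⟨⟨f0, hf0⟩, hf01⟩ := Subgroup.nontrivial_iff_exists_ne_one _ |>.1
        ((Subgroup.nontrivial_iff_ne_bot _).2 hne) |> fun ⟨x, hx, hx1⟩ => (⟨⟨x, hx⟩, hx1⟩ :
          ∃ y : (E ⊓ center P : Subgroup P), (y : P) ≠ 1)
      exact ⟨f0, hf0.1, hf0.2, hf01⟩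
    have hcen : ∀ f : P, f ∈ center P → α f ∈ center P := fun f hf =>
      map_mem_of_char centerCharacteristic hf
    have hne : f0 ≠ α f0 := fun hh => hf01 (hfpf f0 hf0 hh.symm)
    intro f hf t
    have hf' : f ∈ center P := by
      rcases klein hcard.le hf0 (s.ec_map hf0) hf01 (fun hh => hf01 (α.injective (by rw [hh, map_one])))
        hne (hsq f0 hf0) hf with h1 | h1 | h1 | h1 <;> rw [h1]
      exacts [one_mem _, hf0c, hcen _ hf0c, mul_mem hf0c (hcen _ hf0c)]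
    exact mem_center_iff.1 hf' t
  have hF : Frame α E := ⟨s.isP, s.h8, s.pow, hsq, hcentral, hcard, fun f hf => s.ec_map hf, hfpf⟩
  by_cases hn : ∃ z ∈ Zc C, z ^ 2 ≠ 1
  · obtain ⟨z, hz, hz2⟩ := hn
    obtain ⟨k, hk⟩ := s.isP z
    obtain ⟨j, hj4, hj2⟩ := exists_pow_four hk hz2
    let A : Subgroup P :=
      { carrier := {x | x ∈ Zc C ∧ x ^ 4 = 1}
        one_mem' := ⟨one_mem _, one_pow _⟩
        mul_mem' := fun {a b} ha hb => ⟨mul_mem ha.1 hb.1, by
          rw [(show Commute a b from zc_comm ha.1.1 hb.1).mul_pow, ha.2, hb.2, one_mul]⟩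
        inv_mem' := fun {a} ha => ⟨inv_mem ha.1, by rw [inv_pow, ha.2, inv_one]⟩ }
    have hA : Core α E A :=
      { toFrame := hF
        normal := ⟨fun x hx t => ⟨s.zc_normal.conj_mem x hx.1 t, by
          rw [conj_pow, hx.2, mul_one, mul_inv_cancel]⟩⟩
        comm := fun x hx y hy => zc_comm hx.1.1 hy.1
        exp := fun x hx => hx.2
        omega := fun x hx h2 => ⟨hx.1, h2⟩
        le := fun f hf => ⟨hf.1, by rw [show 4 = 2 * 2 from rfl, pow_mul, hf.2, one_pow]⟩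
        ainv := fun x hx => ⟨s.zc_char α hx.1, by rw [← map_pow, hx.2, map_one]⟩
        proper := ⟨z ^ j, ⟨pow_mem hz j, hj4⟩, hj2⟩ }
    exact Or.inr hA.conclude
  push Not at hn
  have hZE : ∀ z ∈ Zc C, z ∈ E := fun z hz => ⟨hz, hn z hz⟩
  by_cases hCE : ∀ g ∈ C, g ∈ E
  · left
    rw [← hcard, ← Subgroup.card_top (G := P)]
    congr 1
    rw [show E = ⊤ from top_unique fun t _ =>
      hCE t (s.cent (mem_centralizer_iff.2 fun x hx => (hcentral x (hCE x hx) t).symm))]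
  push Not at hCE
  obtain ⟨v, hv, hvE⟩ := hCE
  have hCα : ∀ g ∈ C, α g ∈ C := fun g hg => map_mem_of_char s.chr hg
  have hnoinv : ∀ m ∈ C, m ^ 2 = 1 → m ∈ E := fun m hm hm2 =>
    s.not_involution hcard.ge hm2 (fun f hf => hcentral f hf m) (fun t => s.comm m hm t)
      (fun z hz => zc_comm hm hz)
  have hnofix : ∀ g ∈ C, g⁻¹ * α g ∈ E → g ∈ E := by
    intro g hg hgg
    obtain ⟨n, hnE, hw⟩ := hF.lift E (fun f hf => s.ec_map hf) hgg
    have hgn : g * n ∈ C := mul_mem hg hnE.1.1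
    have h2 : (g * n) ^ 2 = 1 := hfpf _ (hZE _ (s.sq _ hgn)) (by rw [map_pow, hw])
    simpa using mul_mem (hnoinv _ hgn h2) (inv_mem hnE)
  have hαv := hCα v hv
  have hwE : v * α v * α (α v) ∈ E := by
    refine hnofix _ (mul_mem (mul_mem hv hαv) (hCα _ hαv)) ?_
    rw [map_mul, map_mul, hF.three,
      show (v * α v * α (α v))⁻¹ * (α v * α (α v) * v) = ⁅(α v * α (α v))⁻¹, v⁻¹⁆ by
        rw [commutatorElement_def]; group]
    exact s.comm_ec (inv_mem (mul_mem hαv (hCα _ hαv))) (inv_mem hv)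
  have hK : ⁅v, α v⁆ ∈ E := s.comm_ec hv hαv
  have hvc : v * α v = α v * v := by
    refine commutatorElement_eq_one_iff_mul_comm.1 (hfpf _ hK ?_)
    have e2 : α (α v) = (v * α v)⁻¹ * (v * α v * α (α v)) := by group
    rw [map_commutatorElement α v (α v), e2,
      comm_mul_right_central (hcentral _ (s.comm_ec hαv hwE.1.1) _),
      commutatorElement_eq_one_iff_mul_comm.2 (zc_comm hαv hwE.1), mul_one, mul_inv_rev,
      comm_mul_right_central (hcentral _ (s.comm_ec hαv (inv_mem hv)) _),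
      commutatorElement_eq_one_iff_mul_comm.2 ((Commute.refl (α v)).inv_right.eq), one_mul]
    have h1 : ⁅α v, v * v⁻¹⁆ = ⁅α v, v⁆ * ⁅α v, v⁻¹⁆ :=
      comm_mul_right_central (hcentral _ (s.comm_ec hαv (inv_mem hv)) _)
    rw [mul_inv_cancel, commutatorElement_one_right, ← commutatorElement_inv v (α v)] at h1
    exact (inv_mul_eq_one.1 h1.symm).symm
  obtain ⟨H1, hH1, -⟩ := exists_double E (hZE _ (s.sq v hv))
    (fun f hf => (inferInstance : E.Normal).conj_mem f hf v)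
  have hsh1 : ∀ y ∈ H1, ∃ f ∈ E, y = f ∨ y = v * f := fun y hy => by
    rcases (hH1 y).1 hy with h1 | h1
    exacts [⟨y, h1, Or.inl rfl⟩, ⟨_, h1, Or.inr (mul_inv_cancel_left v y).symm⟩]
  obtain ⟨X, hX, -⟩ := exists_double H1 ((hH1 _).2 (Or.inl (hZE _ (s.sq _ hαv)))) (fun y hy => by
    obtain ⟨f, hf, h1 | h1⟩ := hsh1 y hy <;> rw [h1]
    · exact (hH1 _).2 (Or.inl ((inferInstance : E.Normal).conj_mem f hf _))
    · refine (hH1 _).2 (Or.inr ?_)
      rw [← conj_mul, ← hvc, mul_inv_cancel_right, inv_mul_cancel_left]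
      exact (inferInstance : E.Normal).conj_mem f hf _)
  have hsh : ∀ y ∈ X, ∃ f ∈ E, y = f ∨ y = v * f ∨ y = α v * f ∨ y = α v * v * f := fun y hy => by
    rcases (hX y).1 hy with h1 | h1
    · obtain ⟨f, hf, h2 | h2⟩ := hsh1 y h1
      exacts [⟨f, hf, Or.inl h2⟩, ⟨f, hf, Or.inr (Or.inl h2)⟩]
    · obtain ⟨f, hf, h2 | h2⟩ := hsh1 _ h1
      · exact ⟨f, hf, Or.inr (Or.inr (Or.inl (by rw [← h2, mul_inv_cancel_left])))⟩
      · exact ⟨f, hf, Or.inr (Or.inr (Or.inr (by rw [mul_assoc, ← h2, mul_inv_cancel_left])))⟩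
  have hEX : E ≤ X := fun f hf => (hX f).2 (Or.inl ((hH1 f).2 (Or.inl hf)))
  have hvX : v ∈ X := (hX v).2 (Or.inl ((hH1 v).2 (Or.inr (by simp))))
  have hαvX : α v ∈ X := (hX _).2 (Or.inr (by simp))
  have hXC : ∀ y ∈ X, y ∈ C := fun y hy => by
    obtain ⟨f, hf, h1 | h1 | h1 | h1⟩ := hsh y hy <;> rw [h1]
    exacts [hf.1.1, mul_mem hv hf.1.1, mul_mem hαv hf.1.1, mul_mem (mul_mem hαv hv) hf.1.1]
  have hXc : ∀ x ∈ X, ∀ y ∈ X, x * y = y * x := by
    have hg : ∀ y ∈ X, ∀ w ∈ C, w * v = v * w → w * α v = α v * w → w * y = y * w := by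
      intro y hy w hw hwv hwa
      obtain ⟨f, hf, h1 | h1 | h1 | h1⟩ := hsh y hy <;> rw [h1]
      · exact zc_comm hw hf.1
      · exact (show Commute w v from hwv).mul_right (zc_comm hw hf.1)
      · exact (show Commute w (α v) from hwa).mul_right (zc_comm hw hf.1)
      · exact ((show Commute w (α v) from hwa).mul_right hwv).mul_right (zc_comm hw hf.1)
    intro x hx y hy
    exact hg y hy x (hXC x hx) (hg x hx v hv rfl hvc).symm (hg x hx _ hαv hvc.symm rfl).symm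
  have hααv : α (α v) ∈ X := by
    rw [show α (α v) = (v * α v)⁻¹ * (v * α v * α (α v)) by group]
    exact mul_mem (inv_mem (mul_mem hvX hαvX)) (hEX hwE)
  have hA : Core α E X :=
    { toFrame := hF
      normal := ⟨fun y hy t => by
        have h1 := mul_mem (hEX (hZE _ (s.comm y (hXC y hy) t))) hy
        rwa [commutatorElement_def, inv_mul_cancel_right] at h1⟩
      comm := hXc
      exp := fun y hy => by
        rw [show 4 = 2 * 2 from rfl, pow_mul]; exact hsq _ (hZE _ (s.sq y (hXC y hy)))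
      omega := fun y hy h2 => hnoinv y (hXC y hy) h2
      le := hEX
      ainv := fun y hy => by
        obtain ⟨f, hf, h1 | h1 | h1 | h1⟩ := hsh y hy <;> rw [h1] <;> (try simp only [map_mul])
        exacts [hEX (s.ec_map hf), mul_mem hαvX (hEX (s.ec_map hf)),
          mul_mem hααv (hEX (s.ec_map hf)), mul_mem (mul_mem hααv hαvX) (hEX (s.ec_map hf))]
      proper := ⟨v, hvX, fun h2 => hvE (hnoinv v hv h2)⟩ }
  exact Or.inr hA.conclude

end Cfsg.Lib.NormalRankTwo
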