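import Cfsg.Agent.Lib.NormalRankTwo.Setting
import Cfsg.Agent.Lib.MacWilliams.Main

/-!
# An automorphism fixing the centre of a critical subgroup

The sections of the critical subgroup and of the centralizer of its centre, and the squares in the
centre.
-/

set_option autoImplicit false
set_option linter.unusedSimpArgs false
set_option linter.style.haveILetI false

namespace Cfsg.Lib.NormalRankTwo

open Subgroup
open scoped commutatorElement

universe u

variable {P : Type u} [Group P] [Finite P]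

/-- A section that is elementary abelian over the centre of the critical subgroup. -/
structure Layer (C X : Subgroup P) : Prop where
  le : Zc C ≤ X
  sq : ∀ x ∈ X, x ^ 2 ∈ Zc C
  comm : ∀ x ∈ X, ∀ y ∈ X, ⁅x, y⁆ ∈ Zc C

/-- The standing hypothesis. -/
structure Fixing (α : MulAut P) (r : ℕ) (C : Subgroup P) : Prop extends Setting α r C where
  fix : ∀ z ∈ Zc C, α z = z

variable {α : MulAut P} {r : ℕ} {C : Subgroup P}

theorem Layer.step {X : Subgroup P} (hX : Layer C X) {H : Subgroup P} (hZH : Zc C ≤ H) (hHX : H ≤ X)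
    {x : P} (hx : x ∈ X) (hxH : x ∉ H) :
    ∃ H' : Subgroup P, (∀ y, y ∈ H' ↔ y ∈ H ∨ x⁻¹ * y ∈ H) ∧ Nat.card H' = 2 * Nat.card H ∧
      Zc C ≤ H' ∧ H' ≤ X ∧ H ≤ H' ∧ x ∈ H' := by
  obtain ⟨H', hH', hc⟩ := exists_double H (hZH (hX.sq x hx)) (fun h hh => by
    rw [show x * h * x⁻¹ = ⁅x, h⁆ * h by rw [commutatorElement_def]; group]
    exact mul_mem (hZH (hX.comm x hx h (hHX hh))) hh)
  refine ⟨H', hH', hc hxH, fun z hz => (hH' z).2 (Or.inl (hZH hz)), fun y hy => ?_,
    fun y hy => (hH' y).2 (Or.inl hy), (hH' x).2 (Or.inr (by simp))⟩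
  rcases (hH' y).1 hy with h | h
  · exact hHX h
  · have h2 := mul_mem hx (hHX h)
    rwa [mul_inv_cancel_left] at h2

theorem Layer.double_le {X : Subgroup P} (hX : Layer C X) {H : Subgroup P} (hZH : Zc C ≤ H) (hHX : H ≤ X)
    (hne : H ≠ X) : 2 * Nat.card H ≤ Nat.card X := by
  obtain ⟨x, hx, hxH⟩ := SetLike.exists_of_lt (lt_of_le_of_ne hHX hne)
  obtain ⟨H', -, hc, -, hle, -, -⟩ := hX.step hZH hHX hx hxH
  rw [← hc]
  exact Nat.le_of_dvd Nat.card_pos (card_dvd_of_le hle)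

theorem Layer.card_le {X : Subgroup P} (hX : Layer C X) (hP : IsPGroup 2 P) (h8 : NoEight P)
    [(Zc C).Normal] : Nat.card X ≤ 16 * Nat.card (Zc C) := by
  have h := MacWilliams.quotient_bound hP h8 X ((Zc C).subgroupOf X)
    (fun x => by rw [mem_subgroupOf, SubmonoidClass.coe_pow]; exact hX.sq x x.2)
  rw [← Subgroup.card_mul_index ((Zc C).subgroupOf X),
    Nat.card_congr (Subgroup.subgroupOfEquivOfLe hX.le).toEquiv, mul_comm 16]
  exact Nat.mul_le_mul_left _ h

theorem Setting.layer_c (s : Setting α r C) : Layer C C :=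
  ⟨inf_le_left, s.sq, fun x _ y hy => s.comm y hy x⟩

/-- The centralizer of the centre of the critical subgroup. -/
def Mz (C : Subgroup P) : Subgroup P := centralizer (Zc C : Set P)

theorem mem_mz {t : P} : t ∈ Mz C ↔ ∀ z ∈ Zc C, z * t = t * z := mem_centralizer_iff

theorem le_mz : C ≤ Mz C := fun _ hx => mem_mz.2 fun _ hz => (zc_comm hx hz).symm

theorem Setting.mz_normal (s : Setting α r C) : (Mz C).Normal := by
  haveI := s.zc_normal
  exact inferInstanceAs (centralizer (Zc C : Set P)).Normal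

theorem Setting.mz_comm_ec (s : Setting α r C) {m x : P} (hm : m ∈ Mz C) (hx : x ∈ C) :
    ⁅m, x⁆ ∈ Ec C := by
  have hk := s.comm x hx m
  refine ⟨hk, ?_⟩
  rw [pow_two, ← comm_mul_right_central (zc_comm hx hk), ← pow_two]
  exact commutatorElement_eq_one_iff_mul_comm.2 (mem_mz.1 hm _ (s.sq x hx)).symm

/-- Commutation with an element of the critical subgroup, on the centralizer of its centre. -/
def Setting.mzHom (s : Setting α r C) {x : P} (hx : x ∈ C) : Mz C →* Ec C where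
  toFun m := ⟨⁅(m : P), x⁆, s.mz_comm_ec m.2 hx⟩
  map_one' := Subtype.ext (commutatorElement_one_left x)
  map_mul' a b := Subtype.ext (by
    have h := comm_mul_left_central (mem_mz.1 a.2 _ (s.comm x hx b)).symm
    exact h.trans (s.ec_comm _ (s.mz_comm_ec b.2 hx) _ (s.mz_comm_ec a.2 hx)))

theorem Setting.layer_m (s : Setting α r C) : Layer C (Mz C) := by
  refine ⟨inf_le_left.trans le_mz, fun m hm => s.zc_of_centralizes fun x hx => ?_,
    fun a ha b hb => s.zc_of_centralizes fun x hx => ?_⟩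
  · refine (commutatorElement_eq_one_iff_mul_comm.1 ?_).symm
    have h := congrArg Subtype.val (map_pow (s.mzHom hx) ⟨m, hm⟩ 2)
    exact h.trans (s.mz_comm_ec hm hx).2
  · refine (commutatorElement_eq_one_iff_mul_comm.1 ?_).symm
    have h : s.mzHom hx ⁅(⟨a, ha⟩ : Mz C), ⟨b, hb⟩⁆ = 1 := by
      rw [map_commutatorElement, commutatorElement_eq_one_iff_mul_comm]
      exact Subtype.ext (s.ec_comm _ (s.mz_comm_ec ha hx) _ (s.mz_comm_ec hb hx))
    exact congrArg Subtype.val h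

theorem Setting.mz_map (s : Setting α r C) {m : P} (hm : m ∈ Mz C) : α m ∈ Mz C := by
  refine mem_mz.2 fun z hz => ?_
  have h := congrArg α (mem_mz.1 hm _ (s.zc_char α.symm hz))
  simpa using h


theorem Fixing.lift (s : Fixing α r C) (N : Subgroup P) (hN : ∀ x ∈ N, α x ∈ N) {g : P}
    (hg : g⁻¹ * α g ∈ N) : ∃ n ∈ N, α (g * n) = g * n :=
  exists_fixed_lift s.isP s.pr s.ne2 s.pow N hN hg

theorem Fixing.nonabelian (s : Fixing α r C) : ∃ x ∈ C, ∃ y ∈ C, x * y ≠ y * x := by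
  by_contra h
  push Not at h
  obtain ⟨x, hx, hne⟩ := s.moves
  exact hne (s.fix x (mem_zc.2 ⟨hx, fun y hy => h y hy x hx⟩))

/-- The commutator with a fixed element is unchanged along the automorphism. -/
theorem Fixing.fixed_comm (s : Fixing α r C) {g : P} (hg : g ∈ Mz C) (hfx : α g = g) {x : P} (hx : x ∈ C) :
    ⁅g, x⁻¹ * α x⁆ = 1 := by
  have hαx : α x ∈ C := map_mem_of_char s.chr hx
  have h1 : ⁅g, α x⁆ = ⁅g, x⁆ := by
    have h := map_commutatorElement α g x
    rw [hfx, s.fix _ (s.comm x hx g)] at h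
    exact h.symm
  have h2 : ⁅g, x⁻¹⁆ * ⁅g, x⁆ = 1 := by
    rw [← comm_mul_right_central (zc_comm (inv_mem hx) (s.comm x hx g)), inv_mul_cancel,
      commutatorElement_one_right]
  rw [comm_mul_right_central (zc_comm (inv_mem hx) (s.comm _ hαx g)), h1, h2]

/-- A fixed element commuting with the fixed elements of the critical subgroup is central in it. -/
theorem Fixing.central_of_fixed (s : Fixing α r C) {g : P} (hg : g ∈ Mz C) (hfx : α g = g)
    (hh : ∀ h ∈ C, α h = h → g * h = h * g) : g ∈ Zc C := by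
  refine s.zc_of_centralizes fun x hx => ?_
  let K : Subgroup P := C ⊓ centralizer ({g} : Set P)
  have hK : ∀ v, v ∈ K ↔ v ∈ C ∧ g * v = v * g := fun v => by
    show (v ∈ C ∧ v ∈ centralizer ({g} : Set P)) ↔ _
    rw [mem_centralizer_iff]
    exact ⟨fun h => ⟨h.1, h.2 g rfl⟩, fun h => ⟨h.1, fun w hw => (Set.mem_singleton_iff.1 hw) ▸ h.2⟩⟩
  have hKα : ∀ v ∈ K, α v ∈ K := fun v hv => by
    rw [hK] at hv ⊢
    refine ⟨map_mem_of_char s.chr hv.1, ?_⟩
    have := congrArg α hv.2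
    rwa [map_mul, map_mul, hfx] at this
  obtain ⟨n, hn, he⟩ := s.lift K hKα ((hK _).2 ⟨mul_mem (inv_mem hx) (map_mem_of_char s.chr hx),
    commutatorElement_eq_one_iff_mul_comm.1 (s.fixed_comm hg hfx hx)⟩)
  have hn' := (hK n).1 hn
  have h1 : (x * n) ∈ K := (hK _).2 ⟨mul_mem hx hn'.1, hh _ (mul_mem hx hn'.1) he⟩
  have h2 := mul_mem h1 (inv_mem hn)
  rw [mul_inv_cancel_right] at h2
  exact ((hK x).1 h2).2.symm

/-- An invariant subgroup missing one coset only leaves a fixed element outside. -/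
theorem Fixing.only_coset (s : Fixing α r C) {X : Subgroup P} (hX : Layer C X) (hXα : ∀ x ∈ X, α x ∈ X)
    {H : Subgroup P} (hZH : Zc C ≤ H) (hHX : H ≤ X) (hne : H ≠ X) (hHα : ∀ x ∈ H, α x ∈ H)
    (hcard : Nat.card X ≤ 2 * Nat.card H) : ∃ w ∈ X, w ∉ H ∧ α w = w := by
  obtain ⟨x, hx, hxH⟩ := SetLike.exists_of_lt (lt_of_le_of_ne hHX hne)
  obtain ⟨H', hH', hc, -, hle, -, -⟩ := hX.step hZH hHX hx hxH
  have heq : H' = X := eq_of_le_of_card_ge hle (by rw [hc]; exact hcard)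
  have hαx : α x ∈ H' := by rw [heq]; exact hXα x hx
  rcases (hH' _).1 hαx with h | h
  · exfalso
    have key : ∀ k : ℕ, (α ^ (k + 1)) x ∈ H := by
      intro k
      induction k with
      | zero => simpa using h
      | succ k ih => rw [pow_succ', MulAut.mul_apply]; exact hHα _ ih
    have h2 := key (r - 1)
    rw [Nat.sub_add_cancel s.pr.one_le, s.pow, MulAut.one_apply] at h2
    exact hxH h2
  · obtain ⟨n, hn, he⟩ := s.lift H hHα h
    refine ⟨x * n, mul_mem hx (hHX hn), fun hh => hxH ?_, he⟩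
    simpa using mul_mem hh (inv_mem hn)

theorem Fixing.zc_map (s : Fixing α r C) : ∀ x ∈ Zc C, α x ∈ Zc C := fun x hx => by
  rw [s.fix x hx]; exact hx

theorem Fixing.c_map (s : Fixing α r C) : ∀ x ∈ C, α x ∈ C := fun _ hx => map_mem_of_char s.chr hx

/-- Fixed elements are central when the section is small. -/
theorem Fixing.fixed_free (s : Fixing α r C) (hcard : Nat.card C ≤ 8 * Nat.card (Zc C)) {g : P}
    (hg : g ∈ C) (hfx : α g = g) : g ∈ Zc C := by
  by_contra hgZ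
  obtain ⟨H1, hH1, hc1, hZ1, h1C, hle1, hgH1⟩ := s.layer_c.step le_rfl inf_le_left hg hgZ
  refine hgZ (s.central_of_fixed (le_mz hg) hfx fun h hh hfh => ?_)
  by_cases hhH : h ∈ H1
  · rcases (hH1 h).1 hhH with h1 | h1
    · exact zc_comm hg h1
    · rw [← mul_inv_cancel_left g h, mul_assoc, ← zc_comm hg h1]
  exfalso
  obtain ⟨H2, hH2, hc2, hZ2, h2C, hle2, -⟩ := s.layer_c.step hZ1 h1C hh hhH
  have hfix2 : ∀ y ∈ H2, α y = y := by
    have hfix1 : ∀ y ∈ H1, α y = y := fun y hy => by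
      rcases (hH1 y).1 hy with h1 | h1
      · exact s.fix y h1
      · rw [← mul_inv_cancel_left g y, map_mul, hfx, s.fix _ h1]
    intro y hy
    rcases (hH2 y).1 hy with h1 | h1
    · exact hfix1 y h1
    · rw [← mul_inv_cancel_left h y, map_mul, hfh, hfix1 _ h1]
  obtain ⟨x, hx, hne⟩ := s.moves
  by_cases h2e : H2 = C
  · exact hne (hfix2 x (h2e ▸ hx))
  obtain ⟨w, hw, hwH, hfw⟩ := s.only_coset s.layer_c s.c_map hZ2 h2C h2e
    (fun y hy => by rw [hfix2 y hy]; exact hy) (by rw [hc2, hc1]; omega)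
  obtain ⟨H3, hH3, hc3, -, h3C, -, -⟩ := s.layer_c.step hZ2 h2C hw hwH
  have heq : H3 = C := eq_of_le_of_card_ge h3C (by rw [hc3, hc2, hc1]; omega)
  rw [← heq] at hx
  rcases (hH3 x).1 hx with h1 | h1
  · exact hne (hfix2 x h1)
  · refine hne ?_
    rw [← mul_inv_cancel_left w x, map_mul, hfw, hfix2 _ h1]

/-- With eight cosets every commutator lies in each subgroup of index two of the involutions. -/
theorem Fixing.radical (s : Fixing α r C) (hcard : Nat.card C = 8 * Nat.card (Zc C)) (K : Subgroup P)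
    (hKE : K ≤ Ec C) (hK : ∀ a ∈ Ec C, ∀ b ∈ Ec C, a ∉ K → b ∉ K → a * b ∈ K) :
    ∀ x ∈ C, ∀ y ∈ C, ⁅x, y⁆ ∈ K := by
  by_contra hcon
  push Not at hcon
  obtain ⟨x, hx, y, hy, hxy⟩ := hcon
  have hone : ∀ a b : P, a * b = b * a → ⁅a, b⁆ ∈ K := fun a b h => by
    rw [commutatorElement_eq_one_iff_mul_comm.2 h]; exact one_mem _
  have hxZ : x ∉ Zc C := fun h => hxy (hone _ _ (zc_comm hy h).symm)
  obtain ⟨H1, hH1, hc1, hZ1, h1C, hle1, hxH1⟩ := s.layer_c.step le_rfl inf_le_left hx hxZ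
  have hyH1 : y ∉ H1 := fun h => by
    rcases (hH1 y).1 h with h1 | h1
    · exact hxy (hone _ _ (zc_comm hx h1))
    · refine hxy (hone _ _ ?_)
      rw [← mul_inv_cancel_left x y, mul_assoc, ← zc_comm hx h1]
  obtain ⟨H2, hH2, hc2, hZ2, h2C, hle2, hyH2⟩ := s.layer_c.step hZ1 h1C hy hyH1
  have h2ne : H2 ≠ C := fun h => by
    rw [h, hc1] at hc2
    have hp : 0 < Nat.card (Zc C) := Nat.card_pos
    omega
  obtain ⟨w, hw, hwH⟩ := SetLike.exists_of_lt (lt_of_le_of_ne h2C h2ne)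
  have hmul : ∀ u ∈ C, ∀ a ∈ C, ∀ b ∈ C, ⁅u, a * b⁆ = ⁅u, a⁆ * ⁅u, b⁆ := fun u _ a ha b hb =>
    comm_mul_right_central (zc_comm ha (s.comm b hb u))
  obtain ⟨w1, hw1, hw1H, hxw1⟩ : ∃ w1 ∈ C, w1 ∉ H2 ∧ ⁅x, w1⁆ ∈ K := by
    by_cases h : ⁅x, w⁆ ∈ K
    · exact ⟨w, hw, hwH, h⟩
    · refine ⟨w * y, mul_mem hw hy, fun hh => hwH ?_, ?_⟩
      · simpa using mul_mem hh (inv_mem hyH2)
      · rw [hmul x hx w hw y hy]
        exact hK _ (s.comm_ec hx hw) _ (s.comm_ec hx hy) h hxy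
  obtain ⟨w2, hw2, hw2H, hxw2, hyw2⟩ : ∃ w2 ∈ C, w2 ∉ H2 ∧ ⁅x, w2⁆ ∈ K ∧ ⁅y, w2⁆ ∈ K := by
    by_cases h : ⁅y, w1⁆ ∈ K
    · exact ⟨w1, hw1, hw1H, hxw1, h⟩
    · refine ⟨w1 * x, mul_mem hw1 hx, fun hh => hw1H ?_, ?_, ?_⟩
      · simpa using mul_mem hh (inv_mem (hle2 hxH1))
      · rw [hmul x hx w1 hw1 x hx]
        exact mul_mem hxw1 (hone _ _ rfl)
      · rw [hmul y hy w1 hw1 x hx]
        refine hK _ (s.comm_ec hy hw1) _ (s.comm_ec hy hx) h fun hh => hxy ?_
        rw [← commutatorElement_inv]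
        exact inv_mem hh
  let R : Subgroup P :=
    { carrier := {g | g ∈ C ∧ ∀ v ∈ C, ⁅v, g⁆ ∈ K}
      one_mem' := ⟨one_mem _, fun v _ => by rw [commutatorElement_one_right]; exact one_mem _⟩
      mul_mem' := fun {a b} ha hb => ⟨mul_mem ha.1 hb.1, fun v hv => by
        rw [hmul v hv a ha.1 b hb.1]; exact mul_mem (ha.2 v hv) (hb.2 v hv)⟩
      inv_mem' := fun {a} ha => ⟨inv_mem ha.1, fun v hv => by
        have h := hmul v hv _ (inv_mem ha.1) a ha.1
        rw [inv_mul_cancel, commutatorElement_one_right] at h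
        rw [eq_inv_of_mul_eq_one_left h.symm]
        exact inv_mem (ha.2 v hv)⟩ }
  have hRC : R ≤ C := fun g hg => hg.1
  have hZR : Zc C ≤ R := fun g hg => ⟨hg.1, fun v hv => hone _ _ (zc_comm hv hg)⟩
  have hRα : ∀ g ∈ R, α g ∈ R := fun g hg => by
    refine ⟨s.c_map g hg.1, fun v hv => ?_⟩
    have hv' : α.symm v ∈ C := map_mem_of_char s.chr hv
    have h := hg.2 _ hv'
    rw [← s.fix _ (hKE h).1, map_commutatorElement, MulEquiv.apply_symm_apply] at h
    exact h
  have hw2R : w2 ∈ R := by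
    refine ⟨hw2, fun v hv => ?_⟩
    obtain ⟨H3, hH3, hc3, -, h3C, -, -⟩ := s.layer_c.step hZ2 h2C hw2 hw2H
    have heq : H3 = C := eq_of_le_of_card_ge h3C (by rw [hc3, hc2, hc1, hcard]; omega)
    have hmul' : ∀ a ∈ C, ∀ b ∈ C, ⁅a, w2⁆ ∈ K → ⁅b, w2⁆ ∈ K → ⁅a * b, w2⁆ ∈ K := fun a ha b hb h1 h2 => by
      rw [comm_mul_left_central (zc_comm ha (s.comm w2 hw2 b))]
      exact mul_mem h2 h1
    have hzc : ∀ z ∈ Zc C, ⁅z, w2⁆ ∈ K := fun z hz => hone _ _ (zc_comm hw2 hz).symm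
    have h1' : ∀ u ∈ H1, ⁅u, w2⁆ ∈ K := fun u hu => by
      rcases (hH1 u).1 hu with h1 | h1
      · exact hzc u h1
      · rw [← mul_inv_cancel_left x u]
        exact hmul' x hx _ h1.1 hxw2 (hzc _ h1)
    have h2' : ∀ u ∈ H2, ⁅u, w2⁆ ∈ K := fun u hu => by
      rcases (hH2 u).1 hu with h1 | h1
      · exact h1' u h1
      · rw [← mul_inv_cancel_left y u]
        exact hmul' y hy _ (h1C h1) hyw2 (h1' _ h1)
    rw [← heq] at hv
    rcases (hH3 v).1 hv with h1 | h1
    · exact h2' v h1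
    · rw [← mul_inv_cancel_left w2 v]
      exact hmul' w2 hw2 _ (h2C h1) (hone _ _ rfl) (h2' _ h1)
  have hRne : R ≠ C := fun h => hxy (((h ▸ hy : y ∈ R)).2 x hx)
  have hw2Z : w2 ∉ Zc C := fun h => hw2H (hZ2 h)
  obtain ⟨S1, hS1, hd1, hZS1, hS1C, -, -⟩ := s.layer_c.step le_rfl inf_le_left hw2 hw2Z
  have hS1R : S1 ≤ R := fun u hu => by
    rcases (hS1 u).1 hu with h1 | h1
    · exact hZR h1
    · rw [← mul_inv_cancel_left w2 u]; exact mul_mem hw2R (hZR h1)
  have h8 : Nat.card C ≤ 8 * Nat.card (Zc C) := hcard.le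
  by_cases hRS : R = S1
  · obtain ⟨v, hv, hvZ, hfv⟩ := s.only_coset (X := R) ⟨hZR, fun u hu => s.sq u hu.1,
      fun a _ b hb => s.comm b hb.1 a⟩ hRα le_rfl hZR
      (fun h => hw2Z (by rw [h]; exact hw2R)) s.zc_map (by rw [hRS, hd1])
    exact hvZ (s.fixed_free h8 hv.1 hfv)
  · have h4 := (Layer.double_le (X := R) ⟨hZR, fun u hu => s.sq u hu.1, fun a _ b hb => s.comm b hb.1 a⟩
      hZS1 hS1R (Ne.symm hRS))
    obtain ⟨v, hv, hvR, hfv⟩ := s.only_coset s.layer_c s.c_map hZR hRC hRne hRα (by rw [hcard]; omega)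
    exact hvR (hZR (s.fixed_free h8 hv hfv))

/-- The involutions of the centre form a group of order two or four. -/
theorem Fixing.ec_cases (s : Fixing α r C) :
    (∃ c, c ^ 2 = 1 ∧ c ≠ 1 ∧ ∀ e, e ∈ Ec C ↔ e = 1 ∨ e = c) ∨ Nat.card (Ec C) = 4 := by
  haveI : Fact (Nat.Prime 2) := ⟨Nat.prime_two⟩
  obtain ⟨x, hx, -⟩ := s.nonabelian
  obtain ⟨z, hz, hz1⟩ : ∃ z ∈ Zc C, z ≠ 1 := by
    by_contra h
    push Not at h
    obtain ⟨x, hx, y, hy, hxy⟩ := s.nonabelian
    exact hxy (commutatorElement_eq_one_iff_mul_comm.1 (h _ (s.comm y hy x)))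
  obtain ⟨k, hk⟩ := s.isP z
  obtain ⟨j, hj, hj1⟩ := exists_pow_involution hk hz1
  set c := z ^ j with hc
  have hcE : c ∈ Ec C := ⟨pow_mem hz j, hj⟩
  by_cases h : ∀ e ∈ Ec C, e = 1 ∨ e = c
  · refine Or.inl ⟨c, hj, hj1, fun e => ⟨h e, ?_⟩⟩
    rintro (rfl | rfl)
    exacts [one_mem _, hcE]
  · push Not at h
    obtain ⟨f, hf, hf1, hfc⟩ := h
    refine Or.inr (le_antisymm s.ec_card ?_)
    have hfc' : c * f ≠ 1 := fun hh => hfc (by
      rw [← inv_eq_of_mul_eq_one_right hh, inv_eq_of_mul_eq_one_right (show c * c = 1 by rw [← pow_two, hj])])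
    have hsub : ({1, c, f, c * f} : Set P) ⊆ (Ec C : Set P) := by
      intro x hx
      rcases hx with rfl | rfl | rfl | rfl
      exacts [one_mem _, hcE, hf, mul_mem hcE hf]
    have hn : ({1, c, f, c * f} : Set P).ncard = 4 := by
      rw [Set.ncard_insert_of_notMem (by simp [Ne.symm hj1, Ne.symm hf1, Ne.symm hfc']),
        Set.ncard_insert_of_notMem (by simp [Ne.symm hfc, hf1]),
        Set.ncard_insert_of_notMem (by simp [hj1]), Set.ncard_singleton]
    have h1 := Set.ncard_le_ncard hsub (Set.toFinite _)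
    rwa [hn, ← Nat.card_coe_set_eq] at h1

/-- The critical subgroup modulo its centre has order four or sixteen. -/
theorem Fixing.card_cases (s : Fixing α r C) :
    Nat.card C = 4 * Nat.card (Zc C) ∨ Nat.card C = 16 * Nat.card (Zc C) := by
  obtain ⟨x, hx, y, hy, hxy⟩ := s.nonabelian
  have hxZ : x ∉ Zc C := fun h => hxy (zc_comm hy h).symm
  obtain ⟨H1, hH1, hc1, hZ1, h1C, -, -⟩ := s.layer_c.step le_rfl inf_le_left hx hxZ
  have hyH1 : y ∉ H1 := fun h => by
    rcases (hH1 y).1 h with h1 | h1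
    · exact hxy (zc_comm hx h1)
    · refine hxy ?_
      rw [← mul_inv_cancel_left x y, mul_assoc, ← zc_comm hx h1]
  obtain ⟨H2, hH2, hc2, hZ2, h2C, -, -⟩ := s.layer_c.step hZ1 h1C hy hyH1
  by_cases h2e : H2 = C
  · left
    have : Nat.card H2 = Nat.card C := by rw [h2e]
    omega
  obtain ⟨w, hw, hwH⟩ := SetLike.exists_of_lt (lt_of_le_of_ne h2C h2e)
  obtain ⟨H3, hH3, hc3, hZ3, h3C, -, -⟩ := s.layer_c.step hZ2 h2C hw hwH
  by_cases h3e : H3 = C
  · exfalso
    have h8 : Nat.card C = 8 * Nat.card (Zc C) := by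
      have : Nat.card H3 = Nat.card C := by rw [h3e]
      omega
    have h1e : ∀ v, v ∈ Ec C → v * v = 1 := fun v hv => by rw [← pow_two, hv.2]
    rcases s.ec_cases with ⟨c, hc, hc1', hE⟩ | h4
    · refine hxy (commutatorElement_eq_one_iff_mul_comm.1 (Subgroup.mem_bot.1 (s.radical h8 ⊥ bot_le ?_ x hx y hy)))
      intro a ha b hb ha' hb'
      rw [Subgroup.mem_bot] at ha' hb' ⊢
      rcases (hE a).1 ha with rfl | rfl
      · exact absurd rfl ha'
      · rcases (hE b).1 hb with rfl | rfl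
        · exact absurd rfl hb'
        · exact h1e _ ha
    · have hk : ⁅x, y⁆ ≠ 1 := fun h => hxy (commutatorElement_eq_one_iff_mul_comm.1 h)
      obtain ⟨f, hf, hf1, hfk⟩ : ∃ f ∈ Ec C, f ≠ 1 ∧ f ≠ ⁅x, y⁆ := by
        by_contra hh
        push Not at hh
        have hsub : (Ec C : Set P) ⊆ {1, ⁅x, y⁆} := fun v hv => by
          by_cases hv1 : v = 1
          · exact Or.inl hv1
          · exact Or.inr (hh v hv hv1)
        have h2 := (Set.ncard_le_ncard hsub (Set.toFinite _)).trans (Set.ncard_insert_le _ _)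
        rw [Set.ncard_singleton, ← Nat.card_coe_set_eq] at h2
        have : Nat.card (Ec C) ≤ 2 := h2
        omega
      let K : Subgroup P :=
        { carrier := {v | v = 1 ∨ v = f}
          one_mem' := Or.inl rfl
          mul_mem' := by
            rintro a b (ha | ha) (hb | hb) <;> simp [ha, hb, h1e f hf]
          inv_mem' := by
            rintro a (ha | ha)
            · exact Or.inl (by rw [ha, inv_one])
            · exact Or.inr (by rw [ha, inv_eq_of_mul_eq_one_right (h1e f hf)]) }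
      have hKle : K ≤ Ec C := by
        rintro v (rfl | rfl)
        exacts [one_mem _, hf]
      have hmem := s.radical h8 K hKle ?_ x hx y hy
      · rcases hmem with h | h
        exacts [hk h, hfk h.symm]
      intro a ha b hb ha' hb'
      have hkE := s.comm_ec hx hy
      have hcase : ∀ v ∈ Ec C, v ∉ K → v = ⁅x, y⁆ ∨ v = f * ⁅x, y⁆ := fun v hv hv' => by
        rcases klein h4.le hf hkE hf1 hk hfk hf.2 hv with h | h | h | h
        exacts [absurd (Or.inl h) hv', absurd (Or.inr h) hv', Or.inl h, Or.inr h]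
      have hff := h1e f hf
      have hkk := h1e _ hkE
      have hkf : ⁅x, y⁆ * f = f * ⁅x, y⁆ := zc_comm hkE.1.1 hf.1
      show a * b = 1 ∨ a * b = f
      rcases hcase a ha ha' with rfl | rfl <;> rcases hcase b hb hb' with rfl | rfl
      · exact Or.inl hkk
      · exact Or.inr (by rw [← mul_assoc, hkf, mul_assoc, hkk, mul_one])
      · exact Or.inr (by rw [mul_assoc, hkk, mul_one])
      · exact Or.inl (h1e _ (mul_mem hf hkE))
  · right
    refine le_antisymm ?_ ?_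
    · haveI := s.zc_normal
      exact s.layer_c.card_le s.isP s.h8
    · have h := s.layer_c.double_le hZ3 h3C h3e
      rw [hc3, hc2, hc1] at h
      omega

end Cfsg.Lib.NormalRankTwo
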