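import Cfsg.Agent.Lib.NormalRankTwo.Squares

/-!
# The outcome when the automorphism fixes the centre of the critical subgroup

Either the 2-group has order 64 or 128, or it has an invariant central involution whose fusion in an
ambient group is trivial.
-/

set_option autoImplicit false
set_option linter.unusedSimpArgs false
set_option linter.style.haveILetI false

namespace Cfsg.Lib.NormalRankTwo

open Subgroup
open scoped commutatorElement

universe u

variable {P : Type u} [Group P] [Finite P]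

/-- An involution that will be isolated in any ambient group having `P` as a Sylow 2-subgroup. -/
def Isolated (P : Type u) [Group P] : Prop :=
  ∃ c : P, c ≠ 1 ∧ c ^ 2 = 1 ∧ (∀ β : MulAut P, β c = c) ∧ (∀ t : P, t * c = c * t) ∧
    (∀ t : P, (t ^ 2) ^ 2 = 1 → ∀ v : P, v * t ^ 2 = t ^ 2 * v) ∧
    ∀ v : P, v ^ 2 = 1 → v ≠ 1 → v ≠ c → ∃ q : P, q * v = v * q ∧ q ^ 2 = c

variable {α : MulAut P} {r : ℕ} {C : Subgroup P}

/-- The bound on the centralizer of the centre from two generators. -/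
theorem Setting.mz_card_le (s : Setting α r C) {x y : P} (hx : x ∈ C) (hy : y ∈ C)
    (hgen : ∀ m ∈ Mz C, ⁅m, x⁆ = 1 → ⁅m, y⁆ = 1 → m ∈ Zc C) :
    Nat.card (Mz C) ≤ Nat.card (Ec C) * Nat.card (Ec C) * Nat.card (Zc C) := by
  let f : Mz C →* Ec C × Ec C := (s.mzHom hx).prod (s.mzHom hy)
  have hk : f.ker ≤ (Zc C).subgroupOf (Mz C) := fun m hm => by
    rw [MonoidHom.mem_ker] at hm
    rw [mem_subgroupOf]
    exact hgen m m.2 (congrArg (fun p : Ec C × Ec C => (p.1 : P)) hm)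
      (congrArg (fun p : Ec C × Ec C => (p.2 : P)) hm)
  have h1 : Nat.card f.ker ≤ Nat.card (Zc C) := by
    refine (Nat.le_of_dvd Nat.card_pos (card_dvd_of_le hk)).trans (le_of_eq ?_)
    exact Nat.card_congr (Subgroup.subgroupOfEquivOfLe (inf_le_left.trans le_mz)).toEquiv
  have h2 : Nat.card f.range ≤ Nat.card (Ec C) * Nat.card (Ec C) := by
    rw [← Nat.card_prod]
    exact Finite.card_subtype_le _
  rw [← Subgroup.card_mul_index f.ker, Subgroup.index_ker, mul_comm]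
  exact Nat.mul_le_mul h2 h1

/-- The frame of the case of four cosets. -/
structure Quad (α : MulAut P) (r : ℕ) (C : Subgroup P) (c : P) : Prop extends Fixing α r C where
  cne : c ≠ 1
  csq : c ^ 2 = 1
  cmem : c ∈ Ec C
  cchar : ∀ β : MulAut P, β c = c
  ccent : ∀ t : P, t * c = c * t
  asq : ∀ y ∈ C, y ∉ Zc C → (y⁻¹ * α y) ^ 2 = c
  cover : ∀ q ∈ C, q ∈ Zc C ∨ ∃ y ∈ C, y ∉ Zc C ∧ (y⁻¹ * α y)⁻¹ * q ∈ Zc C
  free : ∀ g ∈ Mz C, α g = g → g ∈ Zc C

theorem Fixing.exists_quad (s : Fixing α r C) (hcard : Nat.card C = 4 * Nat.card (Zc C)) :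
    ∃ c, Quad α r C c ∧ Nat.card (Mz C) ≤ Nat.card (Ec C) * Nat.card (Ec C) * Nat.card (Zc C) := by
  have hp0 : 0 < Nat.card (Zc C) := Nat.card_pos
  have hfree : ∀ g ∈ C, α g = g → g ∈ Zc C := fun g hg hfg => s.fixed_free (by omega) hg hfg
  have hfreeM : ∀ g ∈ Mz C, α g = g → g ∈ Zc C := fun g hg hfg =>
    s.central_of_fixed hg hfg fun h hh hfh => (mem_mz.1 hg h (hfree h hh hfh)).symm
  have hmoved : ∀ y ∈ C, y ∉ Zc C → y⁻¹ * α y ∉ Zc C := fun y hy hyZ =>
    s.moved_not_mem fun h => hyZ (hfree y hy h)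
  -- any element outside the centre generates with its image
  have hgen : ∀ y ∈ C, y ∉ Zc C → ∀ v ∈ C,
      v ∈ Zc C ∨ y⁻¹ * v ∈ Zc C ∨ (α y)⁻¹ * v ∈ Zc C ∨ y⁻¹ * ((α y)⁻¹ * v) ∈ Zc C := by
    intro y hy hyZ v hv
    obtain ⟨H1, hH1, hc1, hZ1, h1C, -, -⟩ := s.layer_c.step le_rfl inf_le_left hy hyZ
    have hαy : α y ∉ H1 := fun h => by
      rcases (hH1 _).1 h with h1 | h1
      · exact hyZ (by simpa using s.zc_char α.symm h1)
      · exact hmoved y hy hyZ h1
    obtain ⟨H2, hH2, hc2, -, h2C, -, -⟩ := s.layer_c.step hZ1 h1C (s.c_map y hy) hαy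
    have heq : H2 = C := eq_of_le_of_card_ge h2C (by rw [hc2, hc1]; omega)
    rcases (hH2 v).1 (heq.symm ▸ hv) with h | h
    · rcases (hH1 v).1 h with h1 | h1
      exacts [Or.inl h1, Or.inr (Or.inl h1)]
    · rcases (hH1 _).1 h with h1 | h1
      exacts [Or.inr (Or.inr (Or.inl h1)), Or.inr (Or.inr (Or.inr h1))]
  have hcommC : ∀ y ∈ C, y ∉ Zc C → ∀ u ∈ C, u * y = y * u → u * α y = α y * u → ∀ v ∈ C, u * v = v * u := by
    intro y hy hyZ u hu h1 h2 v hv
    have key : ∀ a, a⁻¹ * v ∈ Zc C → u * a = a * u → u * v = v * u := fun a ha hua => by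
      have h := (show Commute u a from hua).mul_right (show Commute u (a⁻¹ * v) from zc_comm hu ha)
      rwa [mul_inv_cancel_left] at h
    rcases hgen y hy hyZ v hv with h | h | h | h
    · exact zc_comm hu h
    · exact key y h h1
    · exact key _ h h2
    · refine key (α y * y) ?_ ((show Commute u (α y) from h2).mul_right h1)
      rwa [mul_inv_rev, mul_assoc]
  have hne : ∀ y ∈ C, y ∉ Zc C → ⁅y, α y⁆ ≠ 1 := fun y hy hyZ h => by
    have h' := commutatorElement_eq_one_iff_mul_comm.1 h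
    exact hyZ (mem_zc.2 ⟨hy, fun v hv => (hcommC y hy hyZ y hy rfl h' v hv).symm⟩)
  obtain ⟨x, hx, hmv⟩ := s.moves
  have hxZ : x ∉ Zc C := fun h => hmv (s.fix x h)
  have hαx := s.c_map x hx
  set c := ⁅x, α x⁆ with hc
  have hcE : c ∈ Ec C := s.comm_ec hx hαx
  let K : Subgroup P :=
    { carrier := {v | v = 1 ∨ v = c}
      one_mem' := Or.inl rfl
      mul_mem' := by
        have hcc : c * c = 1 := by rw [← pow_two, hcE.2]
        rintro a b (ha | ha) (hb | hb) <;> simp [ha, hb, hcc]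
      inv_mem' := by
        rintro a (ha | ha)
        · exact Or.inl (by rw [ha, inv_one])
        · exact Or.inr (by rw [ha, inv_eq_of_mul_eq_one_right (show c * c = 1 by rw [← pow_two, hcE.2])]) }
  have hleft : ∀ a ∈ C, ∀ b ∈ C, ∀ v ∈ C, ⁅a * b, v⁆ = ⁅b, v⁆ * ⁅a, v⁆ := fun a ha b _ v hv =>
    comm_mul_left_central (zc_comm ha (s.comm v hv b))
  have hright : ∀ a ∈ C, ∀ b ∈ C, ∀ v ∈ C, ⁅v, a * b⁆ = ⁅v, a⁆ * ⁅v, b⁆ := fun a ha b hb v _ =>
    comm_mul_right_central (zc_comm ha (s.comm b hb v))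
  have hvals : ∀ a ∈ C, ∀ b ∈ C, ⁅a, b⁆ ∈ K := by
    have hxxK : ⁅x, α x⁆ ∈ K := Or.inr rfl
    have hxx' : ⁅α x, x⁆ ∈ K := by rw [← commutatorElement_inv]; exact inv_mem hxxK
    have hzz : ∀ a ∈ C, ∀ ζ ∈ Zc C, ⁅a, ζ⁆ ∈ K := fun a ha ζ hζ => by
      rw [commutatorElement_eq_one_iff_mul_comm.2 (zc_comm ha hζ)]; exact one_mem _
    have hspan : ∀ a ∈ C, ⁅a, x⁆ ∈ K → ⁅a, α x⁆ ∈ K → ∀ b ∈ C, ⁅a, b⁆ ∈ K := by
      intro a ha h1 h2 b hb
      have key : ∀ g ∈ C, g⁻¹ * b ∈ Zc C → ⁅a, g⁆ ∈ K → ⁅a, b⁆ ∈ K := fun g hg hgb hag => by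
        rw [← mul_inv_cancel_left g b, hright g hg _ hgb.1 a ha]
        exact mul_mem hag (hzz a ha _ hgb)
      rcases hgen x hx hxZ b hb with h | h | h | h
      · exact hzz a ha b h
      · exact key x hx h h1
      · exact key _ hαx h h2
      · refine key (α x * x) (mul_mem hαx hx) ?_ (by rw [hright _ hαx _ hx a ha]; exact mul_mem h2 h1)
        rwa [mul_inv_rev, mul_assoc]
    intro a ha b hb
    have hx1 : ⁅x, x⁆ ∈ K := by rw [commutatorElement_self]; exact one_mem _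
    have hx2 : ⁅α x, α x⁆ ∈ K := by rw [commutatorElement_self]; exact one_mem _
    refine hspan a ha ?_ ?_ b hb
    · rw [← commutatorElement_inv]; exact inv_mem (hspan x hx hx1 hxxK a ha)
    · rw [← commutatorElement_inv]; exact inv_mem (hspan _ hαx hxx' hx2 a ha)
  have hcy : ∀ y ∈ C, y ∉ Zc C → ⁅y, α y⁆ = c := fun y hy hyZ =>
    (hvals y hy _ (s.c_map y hy)).resolve_left (hne y hy hyZ)
  have hchar : ∀ β : MulAut P, β c = c := fun β => by
    rw [hc, map_commutatorElement]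
    refine (hvals _ (map_mem_of_char s.chr hx) _ (map_mem_of_char s.chr hαx)).resolve_left fun h => ?_
    rw [← map_commutatorElement, ← map_one β] at h
    exact hne x hx hxZ (β.injective h)
  refine ⟨c, ⟨s, hne x hx hxZ, hcE.2, hcE, hchar, fun t => ?_, fun y hy hyZ => ?_, fun q hq => ?_, hfreeM⟩, ?_⟩
  · have h := hchar (MulAut.conj t)
    rw [MulAut.conj_apply] at h
    exact mul_inv_eq_iff_eq_mul.1 h
  · rw [s.moved_sq hy, hcy y hy hyZ]
  · -- the classes of the elements moved along the automorphism cover the critical subgroup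
    set a := x⁻¹ * α x with ha
    have haC : a ∈ C := mul_mem (inv_mem hx) hαx
    have haZ : a ∉ Zc C := hmoved x hx hxZ
    have hαxZ : α x ∉ Zc C := fun h => hxZ (by simpa using s.zc_char α.symm h)
    have haa : α a = (α x)⁻¹ * α (α x) := by rw [ha, map_mul, map_inv]
    rcases hgen a haC haZ q hq with h | h | h | h
    · exact Or.inl h
    · exact Or.inr ⟨x, hx, hxZ, h⟩
    · exact Or.inr ⟨α x, hαx, hαxZ, by rwa [← haa]⟩
    · refine Or.inr ⟨x * α x, mul_mem hx hαx, fun hh => ?_, ?_⟩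
      · refine hmoved x hx hxZ ?_
        rw [show x⁻¹ * α x = (x ^ 2)⁻¹ * (x * α x) by rw [pow_two]; group]
        exact mul_mem (inv_mem (s.sq x hx)) hh
      · have hαa : α a ∈ C := s.c_map a haC
        have hk : ⁅(α x)⁻¹, a⁆ * ⁅a, α a⁆ ∈ Zc C :=
          mul_mem (s.comm _ haC _) (s.comm _ hαa _)
        have e : (x * α x)⁻¹ * α (x * α x) = ⁅(α x)⁻¹, a⁆ * ⁅a, α a⁆ * (α a * a) := by
          simp only [commutatorElement_def, map_mul, haa, ha, map_inv]
          group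
        rw [e, ← zc_comm (mul_mem hαa haC) hk, mul_inv_rev]
        have e2 : (⁅(α x)⁻¹, a⁆ * ⁅a, α a⁆)⁻¹ * (α a * a)⁻¹ * q
            = (⁅(α x)⁻¹, a⁆ * ⁅a, α a⁆)⁻¹ * (a⁻¹ * ((α a)⁻¹ * q)) := by group
        rw [e2]
        exact mul_mem (inv_mem hk) h
  · refine s.mz_card_le hx hαx fun m hm h1 h2 => ?_
    refine s.zc_of_centralizes fun v hv => ?_
    have h1' := commutatorElement_eq_one_iff_mul_comm.1 h1
    have h2' := commutatorElement_eq_one_iff_mul_comm.1 h2
    have key : ∀ g, g⁻¹ * v ∈ Zc C → m * g = g * m → v * m = m * v := fun g hg hmg => by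
      have h := (show Commute m g from hmg).mul_right (show Commute m (g⁻¹ * v) from (mem_mz.1 hm _ hg).symm)
      rw [mul_inv_cancel_left] at h
      exact h.symm.eq
    rcases hgen x hx hxZ v hv with h | h | h | h
    · exact mem_mz.1 hm v h
    · exact key x h h1'
    · exact key _ h h2'
    · refine key (α x * x) ?_ ((show Commute m (α x) from h2').mul_right h1')
      rwa [mul_inv_rev, mul_assoc]

end Cfsg.Lib.NormalRankTwo
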